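import Cfsg.Agent.InertTwo.Sections
import Cfsg.Agent.Lib.BlocksCore.Omega

/-!
# Integer coefficient vectors of generalized characters and sums over sections
-/

set_option autoImplicit false
set_option linter.style.haveILetI false
set_option linter.unusedSectionVars false

namespace Cfsg.Agent.NinePQ.Four

open Subgroup Cfsg.Agent.BlocksCore
open scoped ComplexConjugate

variable {G : Type*} [Group G] [Fintype G]

open scoped Classical in
/-- The multiplicities of the irreducible characters in a generalized character. -/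
noncomputable def co (F : G → ℂ) (χ : Cfsg.IrrCharacter G) : ℤ :=
  if h : ∃ k : ℤ, Cfsg.classInner F (χ : G → ℂ) = k then h.choose else 0

theorem co_spec {F : G → ℂ} (hF : Cfsg.IsGeneralizedCharacter G F) (χ : Cfsg.IrrCharacter G) :
    (co F χ : ℂ) = Cfsg.classInner F (χ : G → ℂ) := by
  have h := CharCore.IsGeneralizedCharacter.exists_classInner_irr_eq_intCast hF χ
  rw [co, dif_pos h]
  exact h.choose_spec.symm

theorem eq_sum_co {F : G → ℂ} (hF : Cfsg.IsGeneralizedCharacter G F) :
    F = ∑ χ : Cfsg.IrrCharacter G, (co F χ : ℂ) • (χ : G → ℂ) := by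
  conv_lhs => rw [CharCore.eq_sum_classInner (CharCore.IsGeneralizedCharacter.isClassFunction hF)]
  exact Finset.sum_congr rfl fun χ _ => by rw [co_spec hF]

theorem sum_co_mul {F F' : G → ℂ} (hF : Cfsg.IsGeneralizedCharacter G F)
    (hF' : Cfsg.IsGeneralizedCharacter G F') :
    ((∑ χ, co F χ * co F' χ : ℤ) : ℂ) = Cfsg.classInner F F' := by
  conv_rhs => rw [eq_sum_co hF, eq_sum_co hF', CharCore.classInner_sum_sum]
  push_cast
  exact Finset.sum_congr rfl fun χ _ => by simp [map_intCast]

theorem sum_co_deg {F : G → ℂ} (hF : Cfsg.IsGeneralizedCharacter G F) :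
    ((∑ χ, co F χ * (charDegree (χ : G → ℂ) : ℤ) : ℤ) : ℂ) = F 1 := by
  conv_rhs => rw [eq_sum_co hF]
  push_cast
  rw [Finset.sum_apply]
  exact Finset.sum_congr rfl fun χ _ => by rw [Pi.smul_apply, smul_eq_mul, irr_one_eq]

open scoped Classical in
/-- The indicator of the section of `y`, through a projection exponent `e`. -/
noncomputable def sec (e : ℕ) (y : G) : G → ℂ := fun g => if IsConj (g ^ e) y then 1 else 0

theorem isClassFunction_sec (e : ℕ) (y : G) : Cfsg.IsClassFunction G (sec e y) := by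
  intro g h
  have hc : IsConj (g ^ e) ((h * g * h⁻¹) ^ e) := isConj_iff.mpr ⟨h, conj_pow.symm⟩
  classical
  simp only [sec]
  exact if_congr ⟨fun h1 => hc.trans h1, fun h1 => hc.symm.trans h1⟩ rfl rfl

theorem sec_mul_self (e : ℕ) (y g : G) : sec e y g * sec e y g = sec e y g := by
  simp only [sec]; split_ifs <;> simp

theorem sec_mul_of_not (e : ℕ) {y y' : G} (h : ¬ IsConj y y') (g : G) :
    sec e y g * sec e y' g = 0 := by
  simp only [sec]
  split_ifs with h1 h2
  · exact absurd (h1.symm.trans h2) h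
  all_goals simp

theorem conj_sec (e : ℕ) (y g : G) : conj (sec e y g) = sec e y g := by
  simp only [sec]; split_ifs <;> simp

variable {p : ℕ} [Fact p.Prime] {e : ℕ}

theorem sec_pow (he : InertTwo.IsPExp p G e) (y g : G) : sec e y (g ^ e) = sec e y g := by
  unfold sec
  rw [show (g ^ e) ^ e = g ^ e from he.pow_eq_of_pElem (he.orderOf_pow_eq g)]

open scoped Classical in
/-- Summing a class function over the section of a `p`-element. -/
theorem sum_sec (he : InertTwo.IsPExp p G e) {y : G} (hy : ∃ k, orderOf y = p ^ k) {F : G → ℂ}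
    (hF : Cfsg.IsClassFunction G F) :
    (Nat.card (centralizer ({y} : Set G)) : ℂ) * ∑ g, sec e y g * F g =
      (Nat.card G : ℂ) * ∑ x : {x : centralizer ({y} : Set G) // ¬ p ∣ orderOf x},
        F (y * ((x.1 : G))) := by
  set C := centralizer ({y} : Set G)
  let S := {g : G // IsConj (g ^ e) y}
  let R := {x : C // ¬ p ∣ orderOf x}
  have hx : ∀ g : S, ∃ x : G, x * y * x⁻¹ = (g : G) ^ e := fun g => isConj_iff.mp g.2.symm
  choose x hx using hx
  have hpart : ∀ (g : S) (c : C), ((x g * c)⁻¹ * g * (x g * c)) ^ e = y := by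
    intro g c
    have h1 : ((x g * c)⁻¹ * g * (x g * c)) ^ e = (x g * c)⁻¹ * (g : G) ^ e * (x g * c) := by
      simpa using (conj_pow (i := e) (a := (x g * c)⁻¹) (b := (g : G)))
    rw [h1, ← hx g]
    have hc : (c : G) * y = y * c := mem_centralizer_singleton_iff.mp c.2
    calc (x g * c)⁻¹ * (x g * y * (x g)⁻¹) * (x g * c) = (c : G)⁻¹ * (y * c) := by group
      _ = y := by rw [← hc, inv_mul_cancel_left]
  have hR : ∀ (g : S) (c : C), y⁻¹ * ((x g * c)⁻¹ * g * (x g * c)) ∈ C ∧
      ¬ p ∣ orderOf (y⁻¹ * ((x g * c)⁻¹ * g * (x g * c))) := by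
    intro g c
    obtain ⟨w, hw, hwc, -, hw3⟩ := he.isPPart ((x g * c)⁻¹ * g * (x g * c))
    rw [hpart g c] at hw hwc
    rw [← hw, inv_mul_cancel_left]
    exact ⟨mem_centralizer_singleton_iff.mpr hwc.eq.symm, hw3⟩
  let φ : S × C → G × R := fun q => (x q.1 * q.2,
    ⟨⟨_, (hR q.1 q.2).1⟩, by rw [Subgroup.orderOf_mk]; exact (hR q.1 q.2).2⟩)
  have hval : ∀ q : S × C, (φ q).1 * (y * ((φ q).2.1 : G)) * ((φ q).1)⁻¹ = q.1 := fun q => by
    simp only [φ]; group
  have hbij : Function.Bijective φ := by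
    refine ⟨fun q q' h => ?_, fun r => ?_⟩
    · have h1 : q.1 = q'.1 := Subtype.ext (by rw [← hval q, h, hval q'])
      refine Prod.ext h1 (Subtype.ext ?_)
      have h2 := congrArg Prod.fst h
      simp only [φ, h1] at h2
      exact mul_left_cancel h2
    · obtain ⟨z, r⟩ := r
      have hpp : IsPPart p (y * (r.1 : G)) y :=
        ⟨(r.1 : G), rfl, (mem_centralizer_singleton_iff.mp r.1.2).symm, hy,
          by rw [orderOf_coe]; exact r.2⟩
      have hg : (z * (y * (r.1 : G)) * z⁻¹) ^ e = z * y * z⁻¹ := by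
        rw [conj_pow, he.pow_of_isPPart hpp]
      let g : S := ⟨z * (y * (r.1 : G)) * z⁻¹, isConj_iff.mpr ⟨z⁻¹, by rw [hg]; group⟩⟩
      have hc : (x g)⁻¹ * z ∈ C := by
        have h1 : x g * y * (x g)⁻¹ = z * y * z⁻¹ := (hx g).trans hg
        refine mem_centralizer_singleton_iff.mpr ?_
        calc (x g)⁻¹ * z * y = (x g)⁻¹ * (z * y * z⁻¹) * z := by group
          _ = (x g)⁻¹ * (x g * y * (x g)⁻¹) * z := by rw [h1]
          _ = y * ((x g)⁻¹ * z) := by group
      refine ⟨(g, ⟨_, hc⟩), Prod.ext (mul_inv_cancel_left _ _) (Subtype.ext (Subtype.ext ?_))⟩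
      show y⁻¹ * ((x g * ((x g)⁻¹ * z))⁻¹ * (z * (y * (r.1 : G)) * z⁻¹) * (x g * ((x g)⁻¹ * z))) = _
      group
  have key : ∑ q : S × C, F (q.1 : G) = ∑ r : G × R, F (y * (r.2.1 : G)) :=
    Fintype.sum_bijective φ hbij _ _ fun q => by
      rw [← hval q, hF (y * ((φ q).2.1 : G))]
  rw [Fintype.sum_prod_type, Fintype.sum_prod_type] at key
  simp only [Finset.sum_const, Finset.card_univ, nsmul_eq_mul, ← Nat.card_eq_fintype_card] at key
  rw [← Finset.mul_sum] at key
  rw [show ∑ g, sec e y g * F g = ∑ g : S, F (g : G) from ?_]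
  · convert key using 2
  · simp only [sec, ite_mul, one_mul, zero_mul]
    rw [← Finset.sum_filter]
    exact Finset.sum_subtype _ (fun g => by simp) F

/-- A class function of the `p`-part is generalized as soon as it is on a Sylow subgroup. -/
theorem isGeneralized_of_part (P : Sylow p G) (he : InertTwo.IsPExp p G e) {F : G → ℂ}
    (hF : Cfsg.IsClassFunction G F) (hpow : ∀ g, F (g ^ e) = F g)
    (hP : Cfsg.IsGeneralizedCharacter (P : Subgroup G) (fun y : (P : Subgroup G) => F y)) :
    Cfsg.IsGeneralizedCharacter G F := by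
  have hst : InertTwo.IsStable (P : Subgroup G) (fun y : (P : Subgroup G) => F y) := by
    intro x y h
    obtain ⟨c, hc⟩ := isConj_iff.mp h
    show F (x : G) = F (y : G)
    rw [← hc, hF (x : G) c]
  have h := InertTwo.isGeneralizedCharacter_lift P he hst hP
  convert h using 1
  funext g
  obtain ⟨x, hx⟩ := InertTwo.exists_conj_mem P he g
  rw [InertTwo.lift_eq hst hx]
  obtain ⟨c, hc⟩ := isConj_iff.mp hx
  show F g = F (x : G)
  rw [← hc, hF (g ^ e) c, hpow]

open scoped Classical in
/-- `|H|` times the indicator of a subgroup of index `|H|`. -/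
theorem isGeneralized_indicator {Q : Type*} [Group Q] [Fintype Q]
    (hc : ∀ x y : Q, x * y = y * x) {H : Subgroup Q} {n : ℕ} (hH : Nat.card H = n)
    (hn : Nat.card Q = n * n) :
    Cfsg.IsGeneralizedCharacter Q (fun y => if y ∈ H then (n : ℂ) else 0) := by
  haveI : Fintype H := Fintype.ofFinite _
  refine CharCore.isGeneralizedCharacter_iff.mpr
    ⟨fun x y => by rw [hc y x, mul_inv_cancel_right], fun ψ => ?_⟩
  obtain ⟨k, hk⟩ := CharCore.IsGeneralizedCharacter.exists_classInner_eq_intCast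
    (CharCore.isGeneralized_one (G := H))
    (CharCore.isGeneralized_restrict (CharCore.irr_isGeneralized ψ) H)
  refine ⟨k, ?_⟩
  rw [← hk, CharCore.classInner_def, CharCore.classInner_def, hn, hH]
  simp only [ite_mul, zero_mul, Pi.one_apply, one_mul]
  rw [← Finset.sum_filter, Finset.sum_subtype (p := fun y => y ∈ H) _ (fun y => by simp),
    ← Finset.mul_sum, Nat.cast_mul, ← mul_assoc]
  congr 1
  have hn0 : (n : ℂ) ≠ 0 := Nat.cast_ne_zero.mpr (hH ▸ Nat.card_pos.ne')
  field_simp

end Cfsg.Agent.NinePQ.Four
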