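import Mathlib.Algebra.BigOperators.Fin
import Mathlib.Data.Fintype.BigOperators
import Mathlib.Algebra.Order.BigOperators.Group.Finset
import Mathlib.Tactic

/-!
# Integer vectors of small norm attached to an automiser of order four
-/

set_option autoImplicit false

namespace Cfsg.Agent.NinePQ.Four

open Finset

variable {ι : Type*} [Fintype ι]

/-- The product of two integer vectors. -/
def ip (f g : ι → ℤ) : ℤ := ∑ i, f i * g i

theorem ip_comm (f g : ι → ℤ) : ip f g = ip g f :=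
  Finset.sum_congr rfl fun _ _ => mul_comm _ _

theorem ip_add (f g h : ι → ℤ) : ip f (g + h) = ip f g + ip f h := by
  simp [ip, mul_add, Finset.sum_add_distrib]

theorem ip_sub (f g h : ι → ℤ) : ip f (g - h) = ip f g - ip f h := by
  simp [ip, mul_sub, Finset.sum_sub_distrib]

theorem sum_sq_le (s : Finset ι) (f : ι → ℤ) : ∑ i ∈ s, f i * f i ≤ ip f f :=
  Finset.sum_le_univ_sum_of_nonneg fun i => mul_self_nonneg (f i)

theorem norm_three [DecidableEq ι] {f : ι → ℤ} (h : ip f f = 3) :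
    (∀ i, f i = 0 ∨ f i = 1 ∨ f i = -1) ∧
      (Finset.univ.filter fun i => f i ≠ 0).card = 3 := by
  have hv : ∀ i, f i = 0 ∨ f i = 1 ∨ f i = -1 := by
    intro i
    have := (sum_sq_le {i} f)
    rw [Finset.sum_singleton, h] at this
    have h1 : f i < 2 := by nlinarith
    have h2 : -2 < f i := by nlinarith
    omega
  refine ⟨hv, ?_⟩
  have : ((Finset.univ.filter fun i => f i ≠ 0).card : ℤ) = ip f f := by
    rw [ip, Finset.card_filter, Nat.cast_sum]
    refine Finset.sum_congr rfl fun i _ => ?_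
    rcases hv i with e | e | e <;> simp [e]
  omega

theorem ip_of_support [DecidableEq ι] {f : ι → ℤ} {x y z : ι} (hxy : x ≠ y) (hxz : x ≠ z)
    (hyz : y ≠ z) (h0 : ∀ i, i ≠ x → i ≠ y → i ≠ z → f i = 0) (g : ι → ℤ) :
    ip f g = f x * g x + f y * g y + f z * g z := by
  rw [ip, ← Finset.sum_subset (Finset.subset_univ {x, y, z}) fun i _ hi => by
    simp only [Finset.mem_insert, Finset.mem_singleton, not_or] at hi
    rw [h0 i hi.1 hi.2.1 hi.2.2, zero_mul]]
  rw [Finset.sum_insert (by simp [hxy, hxz]), Finset.sum_insert (by simp [hyz]),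
    Finset.sum_singleton]
  ring

/-- The support of a vector of norm three through a given point of its support. -/
theorem exists_support [DecidableEq ι] {f : ι → ℤ} (h : ip f f = 3) {x : ι} (hx : f x ≠ 0) :
    ∃ y z : ι, x ≠ y ∧ x ≠ z ∧ y ≠ z ∧ (f y = 1 ∨ f y = -1) ∧ (f z = 1 ∨ f z = -1) ∧
      (∀ i, i ≠ x → i ≠ y → i ≠ z → f i = 0) ∧
      ∀ g, ip f g = f x * g x + f y * g y + f z * g z := by
  obtain ⟨hv, hc⟩ := norm_three h
  have hxS : x ∈ Finset.univ.filter fun i => f i ≠ 0 := by simp [hx]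
  obtain ⟨y, z, hyz, he⟩ := Finset.card_eq_two.mp
    (show ((Finset.univ.filter fun i => f i ≠ 0).erase x).card = 2 by
      rw [Finset.card_erase_of_mem hxS, hc])
  have hmem : ∀ i, i ≠ x ∧ f i ≠ 0 ↔ i = y ∨ i = z := fun i => by
    have := Finset.ext_iff.mp he i
    simpa using this
  obtain ⟨hy1, hy2⟩ := (hmem y).mpr (Or.inl rfl)
  obtain ⟨hz1, hz2⟩ := (hmem z).mpr (Or.inr rfl)
  have h0 : ∀ i, i ≠ x → i ≠ y → i ≠ z → f i = 0 := fun i a b c => by
    by_contra hne
    rcases (hmem i).mp ⟨a, hne⟩ with e | e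
    · exact b e
    · exact c e
  exact ⟨y, z, hy1.symm, hz1.symm, hyz, (hv y).resolve_left hy2, (hv z).resolve_left hz2, h0,
    ip_of_support hy1.symm hz1.symm hyz h0⟩

variable [DecidableEq ι] {o : ι} {δ : ι → ℤ}

/-- A vector orthogonal to a good pair avoids it. -/
theorem eq_zero_of_good {X Y : ι} (hoX : o ≠ X) (hoY : o ≠ Y) (hXY : X ≠ Y) {A F : ι → ℤ}
    (hAF : A o * F o + A X * F X + A Y * F Y = 0) (hFo : F o = 0) (hFF : ip F F = 3)
    (hδF : ip δ F = 3 ∨ ip δ F = -3) (hδo : δ o = 1) (hδδ : ip δ δ = 9)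
    (hAX : A X = 1 ∨ A X = -1) (hAY : A Y = 1 ∨ A Y = -1) (hδX : δ X = A X) (hδY : δ Y = A Y) :
    F X = 0 ∧ F Y = 0 := by
  rw [hFo, mul_zero, zero_add] at hAF
  obtain ⟨hv, -⟩ := norm_three hFF
  by_contra hne
  have hFX : F X ≠ 0 := by
    intro h0
    rw [h0, mul_zero, zero_add] at hAF
    exact hne ⟨h0, (mul_eq_zero.mp hAF).resolve_left (by omega)⟩
  have hFY : F Y ≠ 0 := by
    intro h0
    rw [h0, mul_zero, add_zero] at hAF
    exact hFX ((mul_eq_zero.mp hAF).resolve_left (by omega))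
  obtain ⟨y, z, hXy, hXz, hyz, hy, hz, h0, hip⟩ := exists_support hFF hFX
  have hY : Y = y ∨ Y = z := by
    by_contra h'
    exact hFY (h0 Y hXY.symm (fun e => h' (Or.inl e)) fun e => h' (Or.inr e))
  have key : ∀ R, R ≠ X → R ≠ Y → F R ≠ 0 →
      ip F δ = F X * δ X + F Y * δ Y + F R * δ R → False := by
    intro R hRX hRY hR hip'
    have hRo : R ≠ o := fun e => hR (e ▸ hFo)
    rw [hδX, hδY, ip_comm, show F X * A X + F Y * A Y = 0 by linarith, zero_add] at hip'
    have h9 : δ R * δ R = 9 := by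
      rcases hv R with e | e | e
      · exact absurd e hR
      all_goals
        rw [e] at hip'
        rcases hδF with d | d <;> rw [d] at hip' <;>
          nlinarith
    have hs := sum_sq_le {o, X, Y, R} δ
    rw [Finset.sum_insert (by simp [hoX, hoY, hRo.symm]),
      Finset.sum_insert (by simp [hXY, hRX.symm]),
      Finset.sum_insert (by simp [hRY.symm]), Finset.sum_singleton, hδo, hδX, hδY, h9, hδδ] at hs
    rcases hAX with e | e <;> rcases hAY with e' | e' <;> rw [e, e'] at hs <;> norm_num at hs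
  rcases hY with rfl | rfl
  · exact key z hXz.symm hyz.symm (by omega) (hip δ)
  · exact key y hXy.symm hyz (by omega) (by rw [hip δ]; ring)

variable {A A' P P' D : ι → ℤ}

/-- The data attached to an automiser of order four, one pair being good. -/
structure Hyp (o : ι) (A A' P P' δ D : ι → ℤ) : Prop where
  A_o : A o = 1
  A'_o : A' o = 1
  P_o : P o = 0
  P'_o : P' o = 0
  δ_o : δ o = 1
  AA : ip A A = 3
  A'A' : ip A' A' = 3
  PP : ip P P = 3
  P'P' : ip P' P' = 3
  δδ : ip δ δ = 9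
  δA : ip δ A = 3
  δA' : ip δ A' = 3
  δP : ip δ P = 3
  δP' : ip δ P' = 3
  AA' : ip A A' = 1
  AP : ip A P = 0
  A'P' : ip A' P' = 0
  AP' : ip A P' = 1
  A'P : ip A' P = 1
  PP' : ip P P' = 1
  SS : ip (A + P - δ) (A + P - δ) = 3
  S'S' : ip (A' + P' - δ) (A' + P' - δ) = 3
  D_o : D o = 1
  AD : ip A D = 0
  A'D : ip A' D = 0
  PD : ip P D = 0
  P'D : ip P' D = 0
  δD : ip δ D = 0
  good : ∀ i, i ≠ o → A i ≠ 0 → δ i = A i

/-- A signed degree with coefficient `±1`. -/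
def IsEntry (o : ι) (δ D : ι → ℤ) (n : ℤ) : Prop :=
  ∃ i, i ≠ o ∧ (δ i = 1 ∨ δ i = -1) ∧ n = δ i * D i

theorem shape (h : Hyp o A A' P P' δ D) :
    (∃ x y : ℤ, IsEntry o δ D x ∧ IsEntry o δ D y ∧ ∃ X' Y' : ι, X' ≠ o ∧ Y' ≠ o ∧
      (A' X' = 1 ∨ A' X' = -1) ∧ (A' Y' = 1 ∨ A' Y' = -1) ∧ δ X' = 2 * A' X' ∧
        1 + x + y = 0 ∧ 1 + A' X' * D X' + A' Y' * D Y' = 0 ∧ y = 2 * (A' X' * D X')) ∨
    ∃ x y x' y' w z u v : ℤ, IsEntry o δ D x ∧ IsEntry o δ D y ∧ IsEntry o δ D x' ∧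
      IsEntry o δ D y' ∧ IsEntry o δ D w ∧ IsEntry o δ D z ∧ IsEntry o δ D u ∧ IsEntry o δ D v ∧
      1 + x + y = 0 ∧ 1 + x' + y' = 0 ∧ x' + w + z = 0 ∧ y' + u + v = 0 ∧ x + w + u = 0 := by
  obtain ⟨hvA', -⟩ := norm_three h.A'A'
  obtain ⟨hvP, -⟩ := norm_three h.PP
  obtain ⟨hvP', -⟩ := norm_three h.P'P'
  set S : ι → ℤ := A + P - δ with hS
  set S' : ι → ℤ := A' + P' - δ with hS'
  obtain ⟨hvS, -⟩ : (∀ i, S i = 0 ∨ S i = 1 ∨ S i = -1) ∧ _ := norm_three h.SS
  obtain ⟨hvS', -⟩ : (∀ i, S' i = 0 ∨ S' i = 1 ∨ S' i = -1) ∧ _ := norm_three h.S'S'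
  have hSi : ∀ i, S i = A i + P i - δ i := fun i => rfl
  have hS'i : ∀ i, S' i = A' i + P' i - δ i := fun i => rfl
  have hδS : ip δ S = -3 := by rw [hS, ip_sub, ip_add, h.δA, h.δP, h.δδ]; norm_num
  have hδS' : ip δ S' = -3 := by rw [hS', ip_sub, ip_add, h.δA', h.δP', h.δδ]; norm_num
  have hA'S : ip A' S = -1 := by
    rw [hS, ip_sub, ip_add, ip_comm A' A, h.AA', h.A'P, ip_comm A' δ, h.δA']; norm_num
  have hAS' : ip A S' = -1 := by
    rw [hS', ip_sub, ip_add, h.AA', h.AP', ip_comm A δ, h.δA]; norm_num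
  have hP'S : ip P' S = -1 := by
    rw [hS, ip_sub, ip_add, ip_comm P' A, h.AP', ip_comm P' P, h.PP', ip_comm P' δ, h.δP']; norm_num
  have hPS : ip P S = 0 := by
    rw [hS, ip_sub, ip_add, ip_comm P A, h.AP, h.PP, ip_comm P δ, h.δP]; norm_num
  -- the good pair
  obtain ⟨X, Y, hoX, hoY, hXY, hAX, hAY, hA0, hipA⟩ :=
    exists_support h.AA (x := o) (by rw [h.A_o]; norm_num)
  have hδX := h.good X hoX.symm (by omega)
  have hδY := h.good Y hoY.symm (by omega)
  obtain ⟨hPX, hPY⟩ := eq_zero_of_good (A := A) hoX hoY hXY (by rw [← hipA, h.AP]) h.P_o h.PP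
    (Or.inl h.δP) h.δ_o h.δδ hAX hAY hδX hδY
  have hδi : ∀ i, i ≠ o → i ≠ X → i ≠ Y → δ i = P i - S i := fun i a b c => by
    rw [hSi, hA0 i a b c]; ring
  have hSo : S o = 0 := by rw [hSi, h.A_o, h.P_o, h.δ_o]; norm_num
  have hSX : S X = 0 := by rw [hSi, hPX, hδX]; ring
  have hSY : S Y = 0 := by rw [hSi, hPY, hδY]; ring
  -- the other pair
  obtain ⟨X₁, Y₁, hoX1, hoY1, hXY1, hAX1, hAY1, hA'0, hipA'⟩ :=
    exists_support h.A'A' (x := o) (by rw [h.A'_o]; norm_num)
  obtain ⟨X', Y', hoX', hoY', hXY', hAX', hAY', hA'0', hipA'', hPX', hPY'⟩ :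
      ∃ X' Y', o ≠ X' ∧ o ≠ Y' ∧ X' ≠ Y' ∧ (A' X' = 1 ∨ A' X' = -1) ∧
        (A' Y' = 1 ∨ A' Y' = -1) ∧ (∀ i, i ≠ o → i ≠ X' → i ≠ Y' → A' i = 0) ∧
        (∀ g, ip A' g = A' o * g o + A' X' * g X' + A' Y' * g Y') ∧
        P X' = A' X' ∧ P Y' = 0 := by
    have h1 := (hipA' P).symm.trans h.A'P
    rw [h.P_o, mul_zero, zero_add] at h1
    by_cases hc : P Y₁ = 0
    · rw [hc, mul_zero, add_zero] at h1
      exact ⟨X₁, Y₁, hoX1, hoY1, hXY1, hAX1, hAY1, hA'0, hipA',
        by rcases hAX1 with e | e <;> rw [e] at h1 ⊢ <;> omega, hc⟩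
    · have hX0 : P X₁ = 0 := by
        rcases hAX1 with e | e <;> rcases hAY1 with e' | e' <;> rw [e, e'] at h1 <;>
          rcases hvP X₁ with p | p | p <;> rcases hvP Y₁ with p' | p' | p' <;> omega
      rw [hX0, mul_zero, zero_add] at h1
      exact ⟨Y₁, X₁, hoY1, hoX1, hXY1.symm, hAY1, hAX1, fun i a b c => hA'0 i a c b,
        fun g => by rw [hipA']; ring,
        by rcases hAY1 with e | e <;> rw [e] at h1 ⊢ <;> omega, hX0⟩
  have hXX' : X' ≠ X := fun e => by rw [e] at hPX' hAX'; omega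
  have hYX' : X' ≠ Y := fun e => by rw [e] at hPX' hAX'; omega
  have hEX : ∀ i, i ≠ o → δ i = A i → (A i = 1 ∨ A i = -1) → IsEntry o δ D (A i * D i) :=
    fun i a b c => ⟨i, a, b ▸ c, by rw [b]⟩
  have hAD : 1 + A X * D X + A Y * D Y = 0 := by
    rw [← h.AD, hipA, h.A_o, h.D_o]; ring
  have hA'D : 1 + A' X' * D X' + A' Y' * D Y' = 0 := by
    rw [← h.A'D, hipA'', h.A'_o, h.D_o]; ring
  have hS2 := (hipA'' S).symm.trans hA'S
  rw [hSo, mul_zero, zero_add] at hS2
  by_cases hbad : S Y' = 0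
  · -- the other pair is bad
    left
    rw [hbad, mul_zero, add_zero] at hS2
    have hSX' : S X' = -A' X' := by rcases hAX' with e | e <;> rw [e] at hS2 ⊢ <;> omega
    have hδX' : δ X' = 2 * A' X' := by
      rw [hδi X' hoX'.symm hXX' hYX', hPX', hSX']; ring
    have hXY'' : Y' ≠ X ∧ Y' ≠ Y ∧ δ Y' = 0 := by
      have h3 := h.δA'
      rw [ip_comm, hipA'', h.A'_o, h.δ_o, hδX'] at h3
      have h0 : δ Y' = 0 := by
        rcases hAX' with e | e <;> rcases hAY' with e' | e' <;> rw [e, e'] at h3 <;> omega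
      exact ⟨fun e => by rw [e, hδX] at h0; omega, fun e => by rw [e, hδY] at h0; omega, h0⟩
    obtain ⟨hY'X, hY'Y, hδY'⟩ := hXY''
    have hS'X : S' X' = P' X' - A' X' := by rw [hS'i, hδX']; ring
    have hS'Y : S' Y' = A' Y' + P' Y' := by rw [hS'i, hδY']; ring
    have hort := (hipA'' P').symm.trans h.A'P'
    rw [h.P'_o, mul_zero, zero_add] at hort
    have hSo' : S' o = 0 := by rw [hS'i, h.A'_o, h.P'_o, h.δ_o]; norm_num
    have hnX' := hvS' X'
    rw [hS'X] at hnX'
    obtain ⟨Z, σ, hσ, hZ, hsum⟩ : ∃ Z, ∃ σ : ℤ, (σ = 1 ∨ σ = -1) ∧ (Z = X ∨ Z = Y) ∧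
        A' X' * D X' - A' Y' * D Y' + A Z * D Z = 0 := by
      by_cases hc : P' X' = 0
      · have hPY0 : P' Y' = 0 := by
          rw [hc, mul_zero, zero_add] at hort
          exact (mul_eq_zero.mp hort).resolve_left (by omega)
        rw [hc, zero_sub] at hS'X
        rw [hPY0, add_zero] at hS'Y
        obtain ⟨y, z, hy1, hz1, hyz, hy, hz, h0, hip⟩ :=
          exists_support (f := S') h.S'S' (x := X') (by rw [hS'X]; omega)
        obtain ⟨R, hR1, hR2, hR, h0', hip'⟩ : ∃ R, R ≠ X' ∧ R ≠ Y' ∧ (S' R = 1 ∨ S' R = -1) ∧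
            (∀ i, i ≠ X' → i ≠ Y' → i ≠ R → S' i = 0) ∧
            ∀ g, ip S' g = S' X' * g X' + S' Y' * g Y' + S' R * g R := by
          by_cases hY'y : Y' = y
          · subst hY'y
            exact ⟨z, hz1.symm, hyz.symm, hz, h0, hip⟩
          · have hY'z : Y' = z := by
              by_contra hne
              have := h0 Y' hXY'.symm hY'y hne
              rw [hS'Y] at this
              omega
            subst hY'z
            exact ⟨y, hy1.symm, hyz, hy, fun i a b c => h0 i a c b, fun g => by rw [hip]; ring⟩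
        have hAS := hAS'
        rw [hipA, hSo', mul_zero, zero_add] at hAS
        have hZ : R = X ∨ R = Y := by
          by_contra hne
          push Not at hne
          rw [h0' X hXX'.symm hY'X.symm hne.1.symm, h0' Y hYX'.symm hY'Y.symm hne.2.symm] at hAS
          norm_num at hAS
        refine ⟨R, -1, Or.inr rfl, hZ, ?_⟩
        have hSR : S' R = -A R := by
          rcases hZ with rfl | rfl
          · rw [h0' Y hYX'.symm hY'Y.symm hXY.symm, mul_zero, add_zero] at hAS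
            rcases hAX with e | e <;> rw [e] at hAS ⊢ <;> omega
          · rw [h0' X hXX'.symm hY'X.symm hXY, mul_zero, zero_add] at hAS
            rcases hAY with e | e <;> rw [e] at hAS ⊢ <;> omega
        have hD : ip S' D = 0 := by
          rw [ip_comm, hS', ip_sub, ip_add, ip_comm D A', ip_comm D P', ip_comm D δ, h.A'D, h.P'D,
            h.δD]
          norm_num
        rw [hip' D, hS'X, hS'Y, hSR] at hD
        linear_combination -hD
      · have hX1 : P' X' = A' X' := by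
          rcases hvP' X' with e | e | e
          · exact absurd e hc
          all_goals rcases hAX' with e' | e' <;> rw [e, e'] at hnX' ⊢ <;> omega
        have hY1 : P' Y' = -A' Y' := by
          rw [hX1] at hort
          rcases hAX' with e | e <;> rcases hAY' with e' | e' <;> rw [e, e'] at hort <;> rw [e'] <;> omega
        obtain ⟨y, z, hy1, hz1, hyz, hy, hz, h0, hip⟩ :=
          exists_support h.P'P' (x := X') hc
        obtain ⟨R, hR1, hR2, hR, h0', hip'⟩ : ∃ R, R ≠ X' ∧ R ≠ Y' ∧ (P' R = 1 ∨ P' R = -1) ∧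
            (∀ i, i ≠ X' → i ≠ Y' → i ≠ R → P' i = 0) ∧
            ∀ g, ip P' g = P' X' * g X' + P' Y' * g Y' + P' R * g R := by
          by_cases hY'y : Y' = y
          · subst hY'y
            exact ⟨z, hz1.symm, hyz.symm, hz, h0, hip⟩
          · have hY'z : Y' = z := by
              by_contra hne
              have := h0 Y' hXY'.symm hY'y hne
              rw [hY1] at this
              omega
            subst hY'z
            exact ⟨y, hy1.symm, hyz, hy, fun i a b c => h0 i a c b, fun g => by rw [hip]; ring⟩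
        have hAS := h.AP'
        rw [hipA, h.P'_o, mul_zero, zero_add] at hAS
        have hZ : R = X ∨ R = Y := by
          by_contra hne
          push Not at hne
          rw [h0' X hXX'.symm hY'X.symm hne.1.symm, h0' Y hYX'.symm hY'Y.symm hne.2.symm] at hAS
          norm_num at hAS
        refine ⟨R, 1, Or.inl rfl, hZ, ?_⟩
        have hSR : P' R = A R := by
          rcases hZ with rfl | rfl
          · rw [h0' Y hYX'.symm hY'Y.symm hXY.symm, mul_zero, add_zero] at hAS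
            rcases hAX with e | e <;> rw [e] at hAS ⊢ <;> omega
          · rw [h0' X hXX'.symm hY'X.symm hXY, mul_zero, zero_add] at hAS
            rcases hAY with e | e <;> rw [e] at hAS ⊢ <;> omega
        have hD := h.P'D
        rw [hip' D, hX1, hY1, hSR] at hD
        linear_combination hD
    rcases hZ with rfl | rfl
    · exact ⟨A Z * D Z, A Y * D Y, hEX Z hoX.symm hδX hAX, hEX Y hoY.symm hδY hAY, X', Y',
        hoX'.symm, hoY'.symm, hAX', hAY', hδX', hAD, hA'D, by linarith⟩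
    · exact ⟨A Z * D Z, A X * D X, hEX Z hoY.symm hδY hAY, hEX X hoX.symm hδX hAX, X', Y',
        hoX'.symm, hoY'.symm, hAX', hAY', hδX', by linarith, hA'D, by linarith⟩
  · -- both pairs are good
    right
    have hSX' : S X' = 0 := by
      rcases hAX' with e | e <;> rcases hAY' with e' | e' <;> rw [e, e'] at hS2 <;>
        rcases hvS X' with p | p | p <;> rcases hvS Y' with p' | p' | p' <;> omega
    rw [hSX', mul_zero, zero_add] at hS2
    have hSY' : S Y' = -A' Y' := by rcases hAY' with e | e <;> rw [e] at hS2 ⊢ <;> omega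
    have hY'X : Y' ≠ X := fun e => hbad (e ▸ hSX)
    have hY'Y : Y' ≠ Y := fun e => hbad (e ▸ hSY)
    have hδX' : δ X' = A' X' := by rw [hδi X' hoX'.symm hXX' hYX', hPX', hSX', sub_zero]
    have hδY' : δ Y' = A' Y' := by
      rw [hδi Y' hoY'.symm hY'X hY'Y, hPY', hSY', zero_sub, neg_neg]
    obtain ⟨W₀, Z₀, hX'W, hX'Z, hWZ, hW, hZ, hP0, hipP⟩ :=
      exists_support h.PP (x := X') (by rw [hPX']; omega)
    obtain ⟨U₀, V₀, hY'U, hY'V, hUV, hU, hV, hS0, hipS⟩ :=
      exists_support (f := S) h.SS (x := Y') hbad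
    have hPD := h.PD
    rw [hipP, hPX'] at hPD
    have hSD : ip S D = 0 := by
      rw [ip_comm, hS, ip_sub, ip_add, ip_comm D A, ip_comm D P, ip_comm D δ, h.AD, h.PD, h.δD]
      norm_num
    rw [hipS, hSY'] at hSD
    -- the two supports are disjoint
    have hdis : S W₀ = 0 ∧ S Z₀ = 0 := by
      have h1 := hPS
      rw [hipP, hSX', mul_zero, zero_add] at h1
      by_contra hne
      have hW0 : S W₀ ≠ 0 := fun e => hne ⟨e, by
        rw [e, mul_zero, zero_add] at h1
        exact (mul_eq_zero.mp h1).resolve_left (by omega)⟩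
      have hZ0 : S Z₀ ≠ 0 := fun e => hne ⟨by
        rw [e, mul_zero, add_zero] at h1
        exact (mul_eq_zero.mp h1).resolve_left (by omega), e⟩
      have hmemW : W₀ = U₀ ∨ W₀ = V₀ := by
        by_contra h'
        push Not at h'
        exact hW0 (hS0 W₀ (fun e => by rw [e, hPY'] at hW; omega) h'.1 h'.2)
      have hmemZ : Z₀ = U₀ ∨ Z₀ = V₀ := by
        by_contra h'
        push Not at h'
        exact hZ0 (hS0 Z₀ (fun e => by rw [e, hPY'] at hZ; omega) h'.1 h'.2)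
      have hSD' : -A' Y' * D Y' + S W₀ * D W₀ + S Z₀ * D Z₀ = 0 := by
        rcases hmemW with rfl | rfl <;> rcases hmemZ with rfl | rfl
        · exact absurd rfl hWZ
        · linarith
        · linarith
        · exact absurd rfl hWZ
      rcases hvS W₀ with e | e | e
      · exact hW0 e
      all_goals
        rcases hvS Z₀ with e' | e' | e'
        · exact hZ0 e'
        all_goals
          rw [e, e'] at h1 hSD'
          rcases hW with w | w <;> rcases hZ with z | z <;> rw [w, z] at h1 hPD <;>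
            first
              | (norm_num at h1; done)
              | (generalize A' X' * D X' = p, A' Y' * D Y' = p' at *; omega)
              | (rw [neg_mul] at hSD'; generalize hp : A' X' * D X' = p at hPD hA'D;
                 generalize hp' : A' Y' * D Y' = p' at hSD' hA'D; simp only [one_mul, neg_mul] at hPD hSD'; omega)
    -- the mirrored vectors
    obtain ⟨hPX1, hPY1⟩ := eq_zero_of_good (A := A') hoX' hoY' hXY'
      (by rw [← hipA'', h.A'P']) h.P'_o h.P'P' (Or.inl h.δP') h.δ_o h.δδ hAX' hAY' hδX' hδY'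
    obtain ⟨X₂, Y₂, hX₂, hY₂, hXY₂, hP'X, hE⟩ : ∃ X₂ Y₂, (X₂ ≠ o ∧ δ X₂ = A X₂ ∧
        (A X₂ = 1 ∨ A X₂ = -1)) ∧ (Y₂ ≠ o ∧ δ Y₂ = A Y₂ ∧ (A Y₂ = 1 ∨ A Y₂ = -1)) ∧
        (X₂ = X ∨ X₂ = Y) ∧ P' X₂ = A X₂ ∧ 1 + A X₂ * D X₂ + A Y₂ * D Y₂ = 0 := by
      have h1 := h.AP'
      rw [hipA, h.P'_o, mul_zero, zero_add] at h1
      by_cases hc : P' Y = 0
      · rw [hc, mul_zero, add_zero] at h1
        exact ⟨X, Y, ⟨hoX.symm, hδX, hAX⟩, ⟨hoY.symm, hδY, hAY⟩, Or.inl rfl,
          by rcases hAX with e | e <;> rw [e] at h1 ⊢ <;> omega, hAD⟩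
      · refine ⟨Y, X, ⟨hoY.symm, hδY, hAY⟩, ⟨hoX.symm, hδX, hAX⟩, Or.inr rfl, ?_, by linarith⟩
        rcases hAX with e | e <;> rcases hAY with e' | e' <;> rw [e, e'] at h1 <;>
          rw [e'] <;> rcases hvP' X with p | p | p <;> rcases hvP' Y with p' | p' | p' <;> omega
    have hX₂P : P X₂ = 0 ∧ S X₂ = 0 := by
      rcases hXY₂ with rfl | rfl
      · exact ⟨hPX, hSX⟩
      · exact ⟨hPY, hSY⟩
    obtain ⟨W, Z, hW', hZ', hP'W, hX'W', hPW, hPD'⟩ : ∃ W Z, (W = W₀ ∨ W = Z₀) ∧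
        (Z = W₀ ∨ Z = Z₀) ∧ P' W = P W ∧ X' ≠ W ∧ (P W = 1 ∨ P W = -1) ∧
        A' X' * D X' + P W * D W + P Z * D Z = 0 := by
      have h1 := h.PP'
      rw [hipP, hPX1, mul_zero, zero_add] at h1
      by_cases hc : P' Z₀ = 0
      · rw [hc, mul_zero, add_zero] at h1
        exact ⟨W₀, Z₀, Or.inl rfl, Or.inr rfl,
          by rcases hW with e | e <;> rw [e] at h1 ⊢ <;> omega, hX'W, hW, hPD⟩
      · refine ⟨Z₀, W₀, Or.inr rfl, Or.inl rfl, ?_, hX'Z, hZ, by linarith⟩
        rcases hW with e | e <;> rcases hZ with e' | e' <;> rw [e, e'] at h1 <;>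
          rw [e'] <;> rcases hvP' W₀ with p | p | p <;> rcases hvP' Z₀ with p' | p' | p' <;> omega
    obtain ⟨U, V, hU', hV', hP'U, hY'U', hSU, hSD'⟩ : ∃ U V, (U = U₀ ∨ U = V₀) ∧
        (V = U₀ ∨ V = V₀) ∧ P' U = -S U ∧ Y' ≠ U ∧ (S U = 1 ∨ S U = -1) ∧
        A' Y' * D Y' + -S U * D U + -S V * D V = 0 := by
      have h1 := hP'S
      rw [ip_comm, hipS, hPY1, mul_zero, zero_add] at h1
      by_cases hc : P' V₀ = 0
      · rw [hc, mul_zero, add_zero] at h1
        exact ⟨U₀, V₀, Or.inl rfl, Or.inr rfl,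
          by rcases hU with e | e <;> rw [e] at h1 ⊢ <;> omega, hY'U, hU, by linarith⟩
      · refine ⟨V₀, U₀, Or.inr rfl, Or.inl rfl, ?_, hY'V, hV, by linarith⟩
        rcases hU with e | e <;> rcases hV with e' | e' <;> rw [e, e'] at h1 <;>
          rw [e'] <;> rcases hvP' U₀ with p | p | p <;> rcases hvP' V₀ with p' | p' | p' <;> omega
    have hWS : S W = 0 := by rcases hW' with rfl | rfl; exacts [hdis.1, hdis.2]
    have hWU : W ≠ U := fun e => by rw [← e, hWS] at hSU; omega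
    have hX₂W : X₂ ≠ W := fun e => by rw [← e, hX₂P.1] at hPW; omega
    have hX₂U : X₂ ≠ U := fun e => by rw [← e, hX₂P.2] at hSU; omega
    have hP'D : A X₂ * D X₂ + P W * D W + -S U * D U = 0 := by
      have hsupp : ∀ i, i ≠ X₂ → i ≠ W → i ≠ U → P' i = 0 := by
        obtain ⟨y, z, hy1, hz1, hyz, hy, hz, h0, -⟩ :=
          exists_support h.P'P' (x := X₂) (by rw [hP'X]; omega)
        intro i a b c
        by_contra hne
        have hm : ∀ j, j ≠ X₂ → P' j ≠ 0 → j = y ∨ j = z := fun j a' b' => by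
          by_contra h'
          push Not at h'
          exact b' (h0 j a' h'.1 h'.2)
        have h2 := hm W hX₂W.symm (by rw [hP'W]; omega)
        have h3 := hm U hX₂U.symm (by rw [hP'U]; omega)
        rcases hm i a hne with rfl | rfl <;> rcases h2 with rfl | rfl <;> rcases h3 with rfl | rfl <;>
          first | exact b rfl | exact c rfl | exact hWU rfl
      have hD := h.P'D
      rw [ip_of_support hX₂W hX₂U hWU hsupp, hP'X, hP'W, hP'U] at hD
      exact hD
    have hnotX : ∀ i, (P i = 1 ∨ P i = -1) ∨ (S i = 1 ∨ S i = -1) → i ≠ o ∧ i ≠ X ∧ i ≠ Y := by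
      intro i hi
      refine ⟨?_, ?_, ?_⟩ <;> rintro rfl
      · rw [h.P_o, hSo] at hi; omega
      · rw [hPX, hSX] at hi; omega
      · rw [hPY, hSY] at hi; omega
    have hEP : ∀ i, (i = W₀ ∨ i = Z₀) → IsEntry o δ D (P i * D i) := by
      intro i hi
      have hPi : P i = 1 ∨ P i = -1 := by rcases hi with rfl | rfl; exacts [hW, hZ]
      have hSi0 : S i = 0 := by rcases hi with rfl | rfl; exacts [hdis.1, hdis.2]
      obtain ⟨a, b, c⟩ := hnotX i (Or.inl hPi)
      have : δ i = P i := by rw [hδi i a b c, hSi0, sub_zero]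
      exact ⟨i, a, this ▸ hPi, by rw [this]⟩
    have hES : ∀ i, (i = U₀ ∨ i = V₀) → IsEntry o δ D (-S i * D i) := by
      intro i hi
      have hSi' : S i = 1 ∨ S i = -1 := by rcases hi with rfl | rfl; exacts [hU, hV]
      have hiY : i ≠ Y' := by rcases hi with rfl | rfl; exacts [hY'U.symm, hY'V.symm]
      have hPi : P i = 0 := by
        refine hP0 i (fun e => ?_) (fun e => ?_) fun e => ?_
        · rw [e, hSX'] at hSi'; omega
        · rw [e, hdis.1] at hSi'; omega
        · rw [e, hdis.2] at hSi'; omega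
      obtain ⟨a, b, c⟩ := hnotX i (Or.inr hSi')
      have : δ i = -S i := by rw [hδi i a b c, hPi, zero_sub]
      exact ⟨i, a, by rw [this]; omega, by rw [this]⟩
    exact ⟨A X₂ * D X₂, A Y₂ * D Y₂, A' X' * D X', A' Y' * D Y', P W * D W, P Z * D Z,
      -S U * D U, -S V * D V, hEX X₂ hX₂.1 hX₂.2.1 hX₂.2.2, hEX Y₂ hY₂.1 hY₂.2.1 hY₂.2.2,
      ⟨X', hoX'.symm, hδX' ▸ hAX', by rw [hδX']⟩, ⟨Y', hoY'.symm, hδY' ▸ hAY', by rw [hδY']⟩,
      hEP W hW', hEP Z hZ', hES U hU', hES V hV', hE, hA'D, hPD', hSD', hP'D⟩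

/-- The arithmetic of the table. -/
theorem table_false {O E x y x' y' w z u v : ℤ} (hOE : 1 + O + E = 0) (hO : O % 2 = 1)
    (hsmall : O = -5 ∨ O = 7 ∨ O = -17)
    (hW : ∀ n, n = w ∨ n = z ∨ n = u ∨ n = v →
      (n % 2 = 1 → n = O) ∧ n ≠ 1 ∧ n ≠ 3 * O + 1)
    (hx : x = E ∨ x = O) (hx' : x' = E ∨ x' = O) (h1 : 1 + x + y = 0) (h2 : 1 + x' + y' = 0)
    (h3 : x' + w + z = 0) (h4 : y' + u + v = 0) (h5 : x + w + u = 0) : False := by
  obtain ⟨a1, a2, a3⟩ := hW w (Or.inl rfl)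
  obtain ⟨b1, b2, b3⟩ := hW z (Or.inr (Or.inl rfl))
  obtain ⟨c1, c2, c3⟩ := hW u (Or.inr (Or.inr (Or.inl rfl)))
  obtain ⟨d1, d2, d3⟩ := hW v (Or.inr (Or.inr (Or.inr rfl)))
  rcases hsmall with rfl | rfl | rfl <;> rcases hx with rfl | rfl <;> rcases hx' with rfl | rfl <;>
    omega

end Cfsg.Agent.NinePQ.Four
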