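import Cfsg.Agent.NinePQ.Four.Setup
import Cfsg.Agent.BGUniq.PLocalBasic
import Cfsg.Agent.Lib.Thompson.PSolvable
import Cfsg.Agent.Lib.CharCore.Burnside

/-!
# The sign character of the centraliser of an element of the diagonal basis
-/

set_option autoImplicit false
set_option linter.style.haveILetI false
set_option linter.unusedSectionVars false

namespace Cfsg.Agent.NinePQ.Four

open Subgroup Cfsg.Agent.BlocksCore

variable {G : Type*} [Group G] [Finite G] [Fact (Nat.Prime 3)] {P : Sylow 3 G} {a b : G}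

/-- A subgroup of index two of the centraliser of `a`. -/
structure Sign (P : Sylow 3 G) (a : G) (M : Subgroup G) : Prop where
  le : M ≤ centralizer ({a} : Set G)
  index_two : ∀ u ∈ centralizer ({a} : Set G), ∀ v ∈ centralizer ({a} : Set G),
    (u * v ∈ M ↔ (u ∈ M ↔ v ∈ M))
  cent : centralizer ((P : Subgroup G) : Set G) ≤ M
  invariant : ∀ g : G, (g * a * g⁻¹ = a ∨ g * a * g⁻¹ = a⁻¹) →
    ∀ x ∈ centralizer ({a} : Set G), (g * x * g⁻¹ ∈ M ↔ x ∈ M)
  exists_out : ∃ h ∈ centralizer ({a} : Set G), ¬ 3 ∣ orderOf h ∧ h ∉ M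

theorem mem_centralizer_conj {g x : G} (hg : g * a * g⁻¹ = a ∨ g * a * g⁻¹ = a⁻¹)
    (hx : x ∈ centralizer ({a} : Set G)) : g * x * g⁻¹ ∈ centralizer ({a} : Set G) := by
  have h1 : Commute (g * x * g⁻¹) (g * a * g⁻¹) :=
    (show Commute x a from mem_centralizer_singleton_iff.mp hx).map (MulAut.conj g).toMonoidHom
  refine mem_centralizer_singleton_iff.mpr ?_
  rcases hg with e | e <;> rw [e] at h1
  · exact h1
  · simpa using h1.inv_right.eq

theorem exists_sign (h : Diag P a b) {m : ℕ}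
    (hm : Nat.card (centralizer ({a} : Set G)) ∣ 3 ^ 2 * 2 ^ m) :
    ∃ M : Subgroup G, Sign P a M := by
  classical
  set L := centralizer ({a} : Set G) with hL
  have hPL : (P : Subgroup G) ≤ L := fun y hy =>
    mem_centralizer_singleton_iff.mpr (h.comm y hy a h.mem_a)
  haveI hsolv : Group.IsSolvable L := by
    obtain ⟨k, l, hk, hl, hkl⟩ := Nat.dvd_mul.mp hm
    obtain ⟨u, -, rfl⟩ := (Nat.dvd_prime_pow Nat.prime_three).mp hk
    obtain ⟨w, -, rfl⟩ := (Nat.dvd_prime_pow Nat.prime_two).mp hl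
    exact CharCore.isSolvable_of_card_eq_prime_pow_mul Nat.prime_three Nat.prime_two _ L u w rfl
      hkl.symm
  set W := pPrimeCore 3 L with hW
  let Q : Sylow 3 L := P.subtype hPL
  set T : Subgroup L := W ⊔ (Q : Subgroup L) with hT
  -- the image of `P` is normal modulo `W`
  have hTn : T.Normal := by
    let π := QuotientGroup.mk' W
    have hπ : Function.Surjective π := QuotientGroup.mk'_surjective W
    let Q' : Sylow 3 (L ⧸ W) := Q.mapSurjective hπ
    have hQ' : (Q' : Subgroup (L ⧸ W)) = (Q : Subgroup L).map π := Sylow.coe_mapSurjective hπ Q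
    have hle : (Q' : Subgroup (L ⧸ W)) ≤ pCore 3 (L ⧸ W) := by
      refine le_trans ?_ (Thompson.centralizer_pCore_le
        (Thompson.isPSolvable_quotient W (BGUniq.isPSolvable_of_isSolvable' 3 L))
        (Thompson.pPrimeCore_quotient_pPrimeCore (G := L) (p := 3)))
      intro z hz
      refine mem_centralizer_iff.mpr fun w hw => ?_
      have hw' := Thompson.pCore_le_sylow Q' hw
      rw [hQ'] at hz hw'
      obtain ⟨z', hz', rfl⟩ := hz
      obtain ⟨w', hw', rfl⟩ := hw'
      rw [← map_mul, ← map_mul]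
      exact congrArg π (Subtype.ext (h.comm _ hw' _ hz'))
    have heq : (Q : Subgroup L).map π = pCore 3 (L ⧸ W) := by
      rw [← hQ']; exact le_antisymm hle (Thompson.pCore_le_sylow Q')
    have : T = (pCore 3 (L ⧸ W)).comap π := by
      rw [← heq, comap_map_eq, QuotientGroup.ker_mk', sup_comm]
    rw [this]
    infer_instance
  -- the normaliser of `P` in `L`
  obtain ⟨n, hn, hna, hnb⟩ := h.flip_b
  have hnL : n ∈ L := mem_centralizer_singleton_iff.mpr (mul_inv_eq_iff_eq_mul.mp hna)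
  set ν : L := ⟨n, hnL⟩
  have hfix : ∀ z : G, z * a * z⁻¹ = a → z * b * z⁻¹ = b →
      z ∈ centralizer ((P : Subgroup G) : Set G) := by
    intro z za zb
    refine mem_centralizer_iff.mpr fun y hy => ?_
    obtain ⟨i, j, -, -, rfl⟩ := h.gen y hy
    exact (mul_inv_eq_iff_eq_mul.mp (by rw [← conj_mul, ← conj_pow, ← conj_pow, za, zb])).symm
  have hWQ : ∀ x : L, (x : G) ∈ (P : Subgroup G) → x ∈ W → x = 1 := by
    intro x hxP hxW
    obtain ⟨k, hk⟩ := IsPGroup.iff_orderOf.mp P.2 ⟨(x : G), hxP⟩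
    rw [Subgroup.orderOf_mk, orderOf_coe] at hk
    have h1 : orderOf x ∣ Nat.card W := orderOf_mk x hxW ▸ orderOf_dvd_natCard (⟨x, hxW⟩ : W)
    exact orderOf_eq_one_iff.mp (Nat.dvd_one.mp ((Thompson.card_pPrimeCore_coprime (G := L) (p := 3)).gcd_eq_one ▸
      Nat.dvd_gcd h1 (by
        rcases Nat.eq_zero_or_pos k with rfl | hk0
        · rw [hk, pow_zero]; exact one_dvd _
        · exfalso
          exact Thompson.not_dvd_card_pPrimeCore (p := 3) (G := L)
            ((dvd_pow_self 3 hk0.ne').trans (hk ▸ h1)))))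
  have hνT : ν ∉ T := by
    intro hν
    obtain ⟨w, hw, q, hq, he⟩ := mem_sup_of_normal_left.mp hν
    have hbL : b ∈ L := hPL h.mem_b
    set β : L := ⟨b, hbL⟩
    have hmem : ν * β * ν⁻¹ * β⁻¹ ∈ W := by
      have hqb : q * β = β * q := Subtype.ext (h.comm _ hq _ h.mem_b)
      have e1 : q * β * q⁻¹ = β := by rw [hqb, mul_inv_cancel_right]
      rw [← he, show w * q * β * (w * q)⁻¹ * β⁻¹ = w * (q * β * q⁻¹) * w⁻¹ * β⁻¹ by group, e1,
        show w * β * w⁻¹ * β⁻¹ = w * (β * w⁻¹ * β⁻¹) by group]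
      exact mul_mem hw ((inferInstance : W.Normal).conj_mem _ (inv_mem hw) β)
    have h1 := hWQ _ (by
      show n * b * n⁻¹ * b⁻¹ ∈ (P : Subgroup G)
      rw [hnb]; exact mul_mem (inv_mem h.mem_b) (inv_mem h.mem_b)) hmem
    have h2 : n * b * n⁻¹ * b⁻¹ = 1 := congrArg Subtype.val h1
    rw [hnb, ← mul_inv_rev, inv_eq_one, ← pow_two] at h2
    exact h.ne_b (orderOf_eq_one_iff.mp (by
      have := orderOf_dvd_of_pow_eq_one h2
      rw [h.order_b] at this
      norm_num at this))
  have hNL : ∀ z : L, z ∈ normalizer ((Q : Subgroup L) : Set L) →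
      (z : G) ∈ centralizer ((P : Subgroup G) : Set G) ∨
        (z : G) * n ∈ centralizer ((P : Subgroup G) : Set G) := by
    intro z hz
    have hzP : (z : G) ∈ normalizer ((P : Subgroup G) : Set G) := by
      refine mem_normalizer_iff.mpr fun y => ⟨fun hy => ?_, fun hy => ?_⟩
      · exact (mem_normalizer_iff.mp hz ⟨y, hPL hy⟩).mp hy
      · have hyL : y ∈ L := by
          have := mul_mem (mul_mem (inv_mem z.2) (hPL hy)) z.2
          simpa [mul_assoc] using this
        exact (mem_normalizer_iff.mp hz ⟨y, hyL⟩).mpr hy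
    have za : (z : G) * a * (z : G)⁻¹ = a :=
      mul_inv_eq_iff_eq_mul.mpr (mem_centralizer_singleton_iff.mp z.2)
    rcases (h.auto z hzP).2 with zb | zb
    · exact Or.inl (hfix _ za zb)
    · refine Or.inr (hfix _ ?_ ?_)
      · rw [show (z : G) * n * a * ((z : G) * n)⁻¹ = z * (n * a * n⁻¹) * (z : G)⁻¹ by group, hna, za]
      · rw [show (z : G) * n * b * ((z : G) * n)⁻¹ = z * (n * b * n⁻¹) * (z : G)⁻¹ by group, hnb,
          ← conj_inv, zb, inv_inv]
  have hCT : ∀ z : L, (z : G) ∈ centralizer ((P : Subgroup G) : Set G) → z ∈ T := by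
    intro z hz
    let π := QuotientGroup.mk' W
    let Q' : Sylow 3 (L ⧸ W) := Q.mapSurjective (QuotientGroup.mk'_surjective W)
    have hQ' : (Q' : Subgroup (L ⧸ W)) = (Q : Subgroup L).map π := Sylow.coe_mapSurjective _ Q
    have hzc : π z ∈ centralizer (pCore 3 (L ⧸ W) : Set (L ⧸ W)) := by
      refine mem_centralizer_iff.mpr fun w hw => ?_
      have hw' := Thompson.pCore_le_sylow Q' hw
      rw [hQ'] at hw'
      obtain ⟨w', hw', rfl⟩ := hw'
      rw [← map_mul, ← map_mul]
      exact congrArg π (Subtype.ext (mem_centralizer_iff.mp hz _ hw'))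
    have := Thompson.pCore_le_sylow Q' (Thompson.centralizer_pCore_le
      (Thompson.isPSolvable_quotient W (BGUniq.isPSolvable_of_isSolvable' 3 L))
      (Thompson.pPrimeCore_quotient_pPrimeCore (G := L) (p := 3)) hzc)
    rw [hQ'] at this
    have h2 : z ∈ ((Q : Subgroup L).map π).comap π := this
    rwa [comap_map_eq, QuotientGroup.ker_mk', sup_comm] at h2
  have hcov : ∀ u : L, u ∈ T ∨ u * ν ∈ T := by
    intro u
    let Q₁ : Sylow 3 T := Q.subtype le_sup_right
    have htop := Sylow.normalizer_sup_eq_top' Q (N := T) le_sup_right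
    obtain ⟨z, hz, t, ht, rfl⟩ := mem_sup_of_normal_right.mp (htop.ge (mem_top u))
    rcases hNL z hz with hc | hc
    · exact Or.inl (mul_mem (hCT z hc) ht)
    · right
      have : z * t * ν = z * ν * (ν⁻¹ * t * ν) := by group
      rw [this]
      refine mul_mem (hCT (z * ν) hc) ?_
      simpa using hTn.conj_mem t ht ν⁻¹
  have hνν : ν * ν ∈ T := (hcov ν).resolve_left hνT
  have hsub : ∀ u : L, u ∉ T → u * ν ∈ T := fun u hu => (hcov u).resolve_left hu
  set M : Subgroup G := T.map L.subtype with hM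
  have hmem : ∀ u : L, (u : G) ∈ M ↔ u ∈ T := fun u =>
    ⟨fun ⟨v, hv, e⟩ => Subtype.ext e ▸ hv, fun hu => ⟨u, hu, rfl⟩⟩
  refine ⟨M, ⟨map_subtype_le T, fun u hu v hv => ?_, fun z hz => ?_, fun g hg x hx => ?_, ?_⟩⟩
  · have e0 : u * v ∈ M ↔ (⟨u, hu⟩ * ⟨v, hv⟩ : L) ∈ T := hmem (⟨u, hu⟩ * ⟨v, hv⟩)
    rw [e0, (hmem ⟨u, hu⟩ : u ∈ M ↔ _), (hmem ⟨v, hv⟩ : v ∈ M ↔ _)]
    by_cases h1 : (⟨u, hu⟩ : L) ∈ T
    · rw [mul_mem_cancel_left h1]; simp [h1]
    · by_cases h2 : (⟨v, hv⟩ : L) ∈ T
      · rw [mul_mem_cancel_right h2]; simp [h1, h2]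
      · simp only [h1, h2, iff_self, iff_true]
        have e1 := hsub _ h1
        have e2 := hsub _ h2
        have e3 : ν⁻¹ * (⟨v, hv⟩ * ν) * ν ∈ T := by simpa using hTn.conj_mem _ e2 ν⁻¹
        have e4 : (⟨u, hu⟩ : L) * ν * (ν⁻¹ * (⟨v, hv⟩ * ν) * ν) * (ν * ν)⁻¹ ∈ T :=
          mul_mem (mul_mem e1 e3) (inv_mem hνν)
        convert e4 using 1
        group
  · have hzL : z ∈ L := mem_centralizer_singleton_iff.mpr
      (mem_centralizer_iff.mp hz a h.mem_a).symm
    exact (hmem ⟨z, hzL⟩).mpr (hCT _ hz)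
  · have main : ∀ g : G, (g * a * g⁻¹ = a ∨ g * a * g⁻¹ = a⁻¹) →
        ∀ x : L, x ∈ T → g * (x : G) * g⁻¹ ∈ M := by
      intro g hg
      let φ : L →* L :=
        { toFun := fun y => ⟨g * (y : G) * g⁻¹, mem_centralizer_conj hg y.2⟩
          map_one' := Subtype.ext (by simp)
          map_mul' := fun y z => Subtype.ext (by simp [mul_assoc]) }
      have hφ : Function.Bijective φ := Finite.injective_iff_bijective.mp fun y z hyz => by
        have := congrArg Subtype.val hyz
        exact Subtype.ext (mul_left_cancel (mul_right_cancel this))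
      let Φ : L ≃* L := MulEquiv.ofBijective φ hφ
      intro x hx
      suffices hle : T.map Φ.toMonoidHom ≤ T from
        (hmem (Φ x)).mpr (hle ⟨x, hx, rfl⟩)
      rw [hT, Subgroup.map_sup, Thompson.map_pPrimeCore_equiv Φ]
      refine sup_le le_sup_left ?_
      rintro _ ⟨y, hy, rfl⟩
      have hpg : IsPGroup 3 ((Q : Subgroup L).map Φ.toMonoidHom) := Q.2.map _
      obtain ⟨Q₂, hQ₂⟩ := hpg.exists_le_sylow
      obtain ⟨c, hc⟩ := MulAction.exists_smul_eq L Q Q₂
      have h1 := hQ₂ ⟨y, hy, rfl⟩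
      rw [← hc] at h1
      obtain ⟨y', hy', e'⟩ := h1
      rw [← e']
      exact hTn.conj_mem y' (mem_sup_right hy') c
    constructor
    · intro hgx
      have hg' : g⁻¹ * a * g⁻¹⁻¹ = a ∨ g⁻¹ * a * g⁻¹⁻¹ = a⁻¹ := by
        rcases hg with e | e
        · left; nth_rw 1 [← e]; group
        · right
          have e' : g * a⁻¹ * g⁻¹ = a := by rw [← conj_inv, e, inv_inv]
          nth_rw 1 [← e']; group
      have hxL := mem_centralizer_conj hg hx
      have := main g⁻¹ hg' ⟨_, hxL⟩ ((hmem ⟨_, hxL⟩).mp hgx)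
      rw [inv_inv] at this
      simpa [mul_assoc] using this
    · intro hxM
      exact main g hg ⟨x, hx⟩ ((hmem ⟨x, hx⟩).mp hxM)
  · obtain ⟨y, w, hyw, hc, ⟨k, hk⟩, hw3, hy', hw'⟩ := exists_isPPart Nat.prime_three ν
    refine ⟨w, w.2, by rwa [orderOf_coe], fun hwM => hνT ?_⟩
    rw [← hyw]
    refine mul_mem ?_ ((hmem w).mp hwM)
    obtain ⟨Q₂, hQ₂⟩ := (IsPGroup.of_card (n := k) (by rw [Nat.card_zpowers, hk]) :
      IsPGroup 3 (zpowers y)).exists_le_sylow
    obtain ⟨c, hc'⟩ := MulAction.exists_smul_eq L Q Q₂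
    have h1 := hQ₂ (mem_zpowers y)
    rw [← hc'] at h1
    obtain ⟨y', hy'', rfl⟩ := h1
    exact hTn.conj_mem y' (mem_sup_right hy'') c

open scoped Classical in
/-- The twisting function. -/
noncomputable def tw (e : ℕ) (a : G) (M : Subgroup G) : G → ℂ := fun g =>
  if h : ∃ x : G, x * g ^ e * x⁻¹ = a then (if h.choose * g * h.choose⁻¹ ∈ M then 1 else -1) else 1

open scoped Classical in
theorem tw_eq {M : Subgroup G} (hM : Sign P a M) {e : ℕ} {g x : G}
    (hx : x * g ^ e * x⁻¹ = a ∨ x * g ^ e * x⁻¹ = a⁻¹) (hinv : IsConj a a⁻¹) :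
    tw e a M g = if x * g * x⁻¹ ∈ M then 1 else -1 := by
  have hex : ∃ x : G, x * g ^ e * x⁻¹ = a := by
    rcases hx with e1 | e1
    · exact ⟨x, e1⟩
    · obtain ⟨c, hc⟩ := isConj_iff.mp hinv.symm
      exact ⟨c * x, by rw [← hc, ← e1]; group⟩
  have h1 := hex.choose_spec
  rw [tw, dif_pos hex]
  set y := hex.choose
  refine if_congr ?_ rfl rfl
  have hyL : y * g * y⁻¹ ∈ centralizer ({a} : Set G) := by
    refine mem_centralizer_singleton_iff.mpr ?_
    rw [← h1, conj_mul, conj_mul, (Commute.self_pow g e).eq]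
  have hxy : x * y⁻¹ * a * (x * y⁻¹)⁻¹ = a ∨ x * y⁻¹ * a * (x * y⁻¹)⁻¹ = a⁻¹ := by
    rcases hx with e1 | e1
    · left
      calc x * y⁻¹ * a * (x * y⁻¹)⁻¹ = x * g ^ e * x⁻¹ := by rw [← h1]; group
        _ = a := e1
    · right
      calc x * y⁻¹ * a * (x * y⁻¹)⁻¹ = x * g ^ e * x⁻¹ := by rw [← h1]; group
        _ = a⁻¹ := e1
  rw [← hM.invariant (x * y⁻¹) hxy _ hyL]
  rw [show x * y⁻¹ * (y * g * y⁻¹) * (x * y⁻¹)⁻¹ = x * g * x⁻¹ by group]

theorem tw_cases (e : ℕ) (a : G) (M : Subgroup G) (g : G) :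
    tw e a M g = 1 ∨ tw e a M g = -1 := by
  unfold tw
  split_ifs <;> simp

theorem tw_of_not {e : ℕ} {M : Subgroup G} {g : G} (h : ¬ IsConj (g ^ e) a) :
    tw e a M g = 1 :=
  dif_neg fun ⟨x, hx⟩ => h (isConj_iff.mpr ⟨x, hx⟩)

theorem isClassFunction_tw [Fintype G] {M : Subgroup G} (hM : Sign P a M) (hinv : IsConj a a⁻¹)
    (e : ℕ) : Cfsg.IsClassFunction G (tw e a M) := by
  intro g c
  by_cases hg : IsConj (g ^ e) a
  · obtain ⟨x, hx⟩ := isConj_iff.mp hg
    have h2 : x * c⁻¹ * (c * g * c⁻¹) ^ e * (x * c⁻¹)⁻¹ = a := by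
      rw [conj_pow, ← hx]; group
    rw [tw_eq hM (Or.inl hx) hinv, tw_eq hM (Or.inl h2) hinv,
      show x * c⁻¹ * (c * g * c⁻¹) * (x * c⁻¹)⁻¹ = x * g * x⁻¹ by group]
  · rw [tw_of_not hg, tw_of_not]
    intro h'
    exact hg ((isConj_iff.mpr ⟨c, conj_pow.symm⟩ : IsConj (g ^ e) ((c * g * c⁻¹) ^ e)).trans h')

variable [Fintype G] {e : ℕ}

/-- The twisted function. -/
noncomputable def fP (e : ℕ) (a b : G) (M : Subgroup G) : G → ℂ :=
  fun g => fA e a b g * tw e a M g

theorem gen_fP (h : Diag P a b) (he : InertTwo.IsPExp 3 G e) {M : Subgroup G} (hM : Sign P a M) :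
    Cfsg.IsGeneralizedCharacter G (fP e a b M) := by
  classical
  have hinv := h.isConj_inv
  have hcl : Cfsg.IsClassFunction G (fP e a b M) := fun g c => by
    simp only [fP, cls_fA e a b g c, isClassFunction_tw hM hinv e g c]
  refine CharInd.isGeneralizedCharacter_of_elementary hcl fun E r hr hE => ?_
  haveI : Fintype E := Fintype.ofFinite _
  obtain ⟨φ, ψ, hφ, hφψ, hidem, hψ⟩ := he.exists_split E hr hE
  let R : Subgroup G := φ.range.map E.subtype
  have hR : IsPGroup 3 R := IsPGroup.iff_orderOf.mpr fun x => by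
    obtain ⟨y, ⟨z, hz⟩, hy⟩ := x.2
    obtain ⟨k, hk⟩ := he.orderOf_pow_eq (z : G)
    refine ⟨k, ?_⟩
    rw [← Subgroup.orderOf_coe, ← hk, ← hy, ← hz, hφ]
    simp
  obtain ⟨Q, hQ⟩ := hR.exists_le_sylow
  obtain ⟨c, hc⟩ := MulAction.exists_smul_eq G Q P
  let f : E → G := fun x => c * (φ x : G) * c⁻¹
  have hf : ∀ x : E, f x ∈ (P : Subgroup G) := fun x => by
    rw [← hc]
    exact Subgroup.smul_mem_pointwise_smul _ (MulAut.conj c) _ (hQ ⟨φ x, ⟨x, rfl⟩, rfl⟩)
  have hfe : ∀ x : E, c * (x : G) ^ e * c⁻¹ = f x := fun x => by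
    simp only [f, hφ, SubmonoidClass.coe_pow]
  have hfA : Cfsg.IsGeneralizedCharacter E (fun x : E => fA e a b (x : G)) :=
    CharCore.isGeneralized_restrict (gen_fA h he) E
  have hfA0 : ∀ x : E, f x ∉ zpowers a → fP e a b M (x : G) = fA e a b (x : G) := by
    intro x hx
    rw [fP, tw_of_not, mul_one]
    intro hconj
    have h1 : IsConj a (f x) := hconj.symm.trans (isConj_iff.mpr ⟨c, hfe x⟩)
    exact hx ((h.isConj_mem h.mem_a (hf x) h1).1 (mem_zpowers a))
  have hfA1 : ∀ x : E, f x = 1 → fA e a b (x : G) = 0 := by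
    intro x hx
    have hx1 : (x : G) ^ e = 1 := conj_eq_one_iff.mp ((hfe x).trans hx)
    obtain ⟨-, -, -, n4, -, n6⟩ := h.not_isConj
    have e1 : sec e a (x : G) = 0 := by unfold sec; rw [hx1, if_neg n4]
    have e2 : sec e (a * b) (x : G) = 0 := by unfold sec; rw [hx1, if_neg n6]
    simp [fA, e1, e2]
  have hzp : ∀ x : E, f x ≠ 1 → f x ∈ zpowers a → f x = a ∨ f x = a⁻¹ := by
    intro x hx1 hx
    obtain ⟨k, hk⟩ := (mem_powers_iff_mem_zpowers).mpr hx
    simp only at hk
    have h3 : k % 3 = 0 ∨ k % 3 = 1 ∨ k % 3 = 2 := by omega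
    rw [← pow_mod_orderOf, h.order_a] at hk
    rcases h3 with e1 | e1 | e1 <;> rw [e1] at hk
    · exact absurd (hk.symm.trans (pow_zero a)) hx1
    · exact Or.inl (hk.symm.trans (pow_one a))
    · exact Or.inr (hk.symm.trans (eq_inv_of_mul_eq_one_left (by rw [← pow_succ, h.pow_a])))
  by_cases hall : ∀ x : E, c * (x : G) * c⁻¹ ∈ centralizer ({a} : Set G)
  swap
  · -- no twist
    suffices (fun x : E => fP e a b M (x : G)) = fun x : E => fA e a b (x : G) by rw [this]; exact hfA
    funext x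
    by_cases hx : f x ∈ zpowers a
    swap
    · exact hfA0 x hx
    by_cases hx1 : f x = 1
    · rw [fP, hfA1 x hx1, zero_mul]
    exfalso
    apply hall
    have hN := CharInd.isNilpotent_of_isElementary hr hE
    intro y
    have hdec : ∀ y : E, Commute (φ x) y := by
      intro y
      rw [← hφψ y]
      refine Commute.mul_right ?_ ?_
      · have h1 := h.comm _ (hf x) _ (hf y)
        simp only [f, conj_mul] at h1
        exact Subtype.ext (mul_left_cancel (mul_right_cancel h1))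
      · refine Transfer.nilpotent_commute_of_coprime hN ?_
        obtain ⟨k, hk⟩ := he.orderOf_pow_eq (x : G)
        rw [← Subgroup.orderOf_coe, ← Subgroup.orderOf_coe, hφ x, SubmonoidClass.coe_pow, hk]
        refine Nat.Coprime.pow_left _ (Nat.prime_three.coprime_iff_not_dvd.mpr
          ((he.pow_eq_one_iff _).mp ?_))
        rw [← SubmonoidClass.coe_pow, ← hφ, hψ]
        rfl
    have h2 : Commute (f x) (c * (y : G) * c⁻¹) :=
      ((hdec y).map E.subtype).map (MulAut.conj c).toMonoidHom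
    refine mem_centralizer_singleton_iff.mpr ?_
    rcases hzp x hx1 hx with e1 | e1 <;> rw [e1] at h2
    · exact h2.eq.symm
    · simpa using h2.inv_left.eq.symm
  · -- twist by a linear character
    let μ : E →* ℂˣ :=
      { toFun := fun x => if c * (x : G) * c⁻¹ ∈ M then 1 else -1
        map_one' := by simp [one_mem]
        map_mul' := fun x y => by
          have h1 := hM.index_two _ (hall x) _ (hall y)
          rw [conj_mul] at h1
          simp only [Subgroup.coe_mul, h1]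
          by_cases hx : c * (x : G) * c⁻¹ ∈ M <;> by_cases hy : c * (y : G) * c⁻¹ ∈ M <;>
            simp [hx, hy] }
    have hgen := CharCore.isGeneralized_mul hfA (CharCore.IsCharacter.isGeneralized
      (CharCore.IsIrrCharacter.isCharacter (CharCore.isIrrCharacter_hom μ)))
    convert hgen using 1
    funext x
    show fP e a b M (x : G) = fA e a b (x : G) * ((μ x : ℂˣ) : ℂ)
    have hμ : ((μ x : ℂˣ) : ℂ) = if c * (x : G) * c⁻¹ ∈ M then 1 else -1 := by
      show ((if c * (x : G) * c⁻¹ ∈ M then (1 : ℂˣ) else -1 : ℂˣ) : ℂ) = _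
      split_ifs <;> simp
    by_cases hx1 : f x = 1
    · rw [fP, hfA1 x hx1, zero_mul, zero_mul]
    by_cases hx : f x ∈ zpowers a
    · rw [fP, tw_eq hM (x := c) (by rw [hfe]; exact hzp x hx1 hx) hinv, hμ]
    · rw [hfA0 x hx, hμ, if_pos, mul_one]
      -- the element centralises `a` and an element outside `⟨a⟩`
      have hxL := hall x
      obtain ⟨k, hk⟩ := he.orderOf_pow_eq (x : G)
      have hcen : c * (x : G) * c⁻¹ ∈ centralizer ((P : Subgroup G) : Set G) := by
        have h1 : Commute (c * (x : G) * c⁻¹) (f x) := by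
          rw [← hfe]; exact (Commute.self_pow (x : G) e).map (MulAut.conj c).toMonoidHom
        obtain ⟨i, j, hi, hj, hij⟩ := h.gen _ (hf x)
        have hj0 : j ≠ 0 := fun h0 => hx (by
          rw [hij, h0, pow_zero, mul_one]; exact pow_mem (mem_zpowers a) i)
        have ha : Commute (c * (x : G) * c⁻¹) a := mem_centralizer_singleton_iff.mp hxL
        have hb : Commute (c * (x : G) * c⁻¹) b := by
          have h2 : Commute (c * (x : G) * c⁻¹) (b ^ j) := by
            have := ((ha.pow_right i).inv_right).mul_right (hij ▸ h1)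
            rwa [inv_mul_cancel_left] at this
          have h3 : b ^ j ∈ centralizer ({c * (x : G) * c⁻¹} : Set G) :=
            mem_centralizer_singleton_iff.mpr h2.eq.symm
          exact (mem_centralizer_singleton_iff.mp (pow_mem_iff h.order_b h3 (by omega))).symm
        refine mem_centralizer_iff.mpr fun y hy => ?_
        obtain ⟨i', j', -, -, rfl⟩ := h.gen y hy
        exact ((ha.pow_right i').mul_right (hb.pow_right j')).eq.symm
      exact hM.cent hcen

/-- The twist has mean `-1/2` on the section of `a`. -/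
theorem sum_sec_tw (h : Diag P a b) (he : InertTwo.IsPExp 3 G e) {M : Subgroup G}
    (hM : Sign P a M) :
    9 * ∑ g, sec e a g * tw e a M g = -(Nat.card G : ℂ) := by
  classical
  set t : G → ℤ := fun g => if tw e a M g = 1 then 1 else -1 with ht
  have htw : ∀ g, tw e a M g = (t g : ℂ) := fun g => by
    simp only [ht]
    rcases tw_cases e a M g with h1 | h1 <;> rw [h1] <;> norm_num
  set S := Finset.univ.filter fun g : G => IsConj (g ^ e) a with hS
  have hsum : ∀ F : G → ℂ, ∑ g, sec e a g * F g = ∑ g ∈ S, F g := fun F => by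
    rw [hS, Finset.sum_filter]
    exact Finset.sum_congr rfl fun g _ => by simp only [sec, ite_mul, one_mul, zero_mul]
  obtain ⟨h0, hh0, hh3, hhM⟩ := hM.exists_out
  have hcomm : Commute a h0 := (mem_centralizer_singleton_iff.mp hh0).symm
  have hae : (a * h0) ^ e = a :=
    he.pow_mul_eq hcomm ⟨1, by rw [h.order_a, pow_one]⟩ hh3
  have hg0 : a * h0 ∈ S := Finset.mem_filter.mpr ⟨Finset.mem_univ _, by rw [hae]⟩
  have hneg : t (a * h0) = -1 := by
    have haM : a ∈ M := hM.cent (mem_centralizer_iff.mpr fun y hy => h.comm y hy a h.mem_a)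
    have h1 : tw e a M (a * h0) = -1 := by
      rw [tw_eq hM (x := 1) (Or.inl (by rw [one_mul, inv_one, mul_one, hae])) h.isConj_inv,
        one_mul, inv_one, mul_one, if_neg fun hmem => hhM ((mul_mem_cancel_left haM).mp hmem)]
    simp only [ht, h1]
    norm_num
  have hlt : ∑ g ∈ S, t g < (S.card : ℤ) := by
    rw [Finset.card_eq_sum_ones, Nat.cast_sum, Nat.cast_one]
    exact Finset.sum_lt_sum (fun g _ => by simp only [ht]; split_ifs <;> norm_num)
      ⟨a * h0, hg0, by rw [hneg]; norm_num⟩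
  have hge : -(S.card : ℤ) ≤ ∑ g ∈ S, t g := by
    rw [Finset.card_eq_sum_ones, Nat.cast_sum, Nat.cast_one, ← Finset.sum_neg_distrib]
    exact Finset.sum_le_sum fun g _ => by simp only [ht]; split_ifs <;> norm_num
  have hcard : (9 * S.card : ℤ) = 2 * (Nat.card G : ℤ) := by
    have h1 := sum_sec_a h he
    have h2 := hsum 1
    simp only [Pi.one_apply, mul_one, Finset.sum_const, nsmul_eq_mul] at h2
    rw [h2] at h1
    exact_mod_cast h1
  obtain ⟨k, hk⟩ := CharCore.IsGeneralizedCharacter.exists_classInner_eq_intCast (gen_fP h he hM)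
    (CharCore.isGeneralized_one (G := G))
  rw [CharCore.classInner_def, inv_mul_eq_iff_eq_mul₀ (Nat.cast_ne_zero.mpr Nat.card_pos.ne')] at hk
  have hval : ∀ g, fP e a b M g * (starRingEnd ℂ) ((1 : G → ℂ) g) =
      3 * (sec e a g * tw e a M g) + 3 * sec e (a * b) g := by
    intro g
    simp only [fP, fA, Pi.one_apply, map_one, mul_one]
    by_cases hg : IsConj (g ^ e) a
    · have : sec e (a * b) g = 0 := by
        unfold sec; rw [if_neg fun h' => h.not_isConj.2.1 (hg.symm.trans h')]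
      rw [this]; ring
    · rw [tw_of_not hg]; ring
  simp only [hval, Finset.sum_add_distrib, ← Finset.mul_sum] at hk
  have hc := sum_sec_c h he
  rw [hsum] at hk ⊢
  simp only [htw, ← Int.cast_sum] at hk ⊢
  have hk2 : (9 * ∑ g ∈ S, t g : ℤ) + (Nat.card G : ℤ) = 3 * k * (Nat.card G : ℤ) := by
    apply Int.cast_injective (α := ℂ)
    push_cast
    push_cast at hk
    linear_combination 3 * hk - hc
  have hpos : (0 : ℤ) < Nat.card G := by exact_mod_cast Nat.card_pos
  have hk0 : k = 0 := by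
    have : k < 1 := by nlinarith
    have : -1 < k := by nlinarith
    omega
  subst hk0
  have : (9 * ∑ g ∈ S, t g : ℤ) = -(Nat.card G : ℤ) := by linarith
  exact_mod_cast this

end Cfsg.Agent.NinePQ.Four
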