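import Cfsg.Agent.NinePQ.Four.Comb
import Cfsg.Agent.NinePQ.Four.Twist
import Cfsg.Agent.NinePQ.Order
import Cfsg.Agent.Lib.CharInd.DefectZero
import Cfsg.Agent.Blocks88.Modular

/-!
# No simple group of order `9 * 2 ^ a * q ^ b` has a diagonal four-group as automiser
-/

set_option autoImplicit false
set_option linter.style.haveILetI false
set_option linter.unusedSectionVars false

namespace Cfsg.Agent.NinePQ.Four

open Subgroup Cfsg.Agent.BlocksCore BlocksDefect AbelianPrincipal CyclicPrincipal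
open scoped ComplexConjugate

variable {G : Type*} [Group G] [Fintype G] [Fact (Nat.Prime 3)] {P : Sylow 3 G} {u v : G} {e : ℕ}

/-- The fixed space of an element of order three. -/
theorem exists_fix (χ : Cfsg.IrrCharacter G) {g : G} (hg : orderOf g = 3) :
    ∃ f n : ℕ, (χ : G → ℂ) 1 + (χ : G → ℂ) g + (χ : G → ℂ) (g ^ 2) = 3 * (f : ℂ) ∧
      f + n = charDegree (χ : G → ℂ) ∧ (n = 0 → (χ : G → ℂ) g = (χ : G → ℂ) 1) := by
  obtain ⟨d, ρ, hρ, hχ⟩ := χ.2
  set T := Inv.avg ρ g
  have hT : T * T = T := Inv.avg_mul_self ρ (by rw [hg]; norm_num)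
  obtain ⟨f, hf, -⟩ := Inv.exists_rank hT
  obtain ⟨n, hn, hn0⟩ := Inv.exists_rank (T := 1 - T) (by
    rw [mul_sub, sub_mul, sub_mul, one_mul, one_mul, mul_one, hT]; abel)
  rw [map_sub] at hn
  have h1 : LinearMap.trace ℂ _ (1 : Module.End ℂ (Fin d → ℂ)) = (χ : G → ℂ) 1 := by
    rw [← hχ, ← map_one ρ]; rfl
  refine ⟨f, n, ?_, ?_, fun h0 => ?_⟩
  · rw [Inv.trace_avg, hg, Finset.sum_range_succ, Finset.sum_range_succ, Finset.sum_range_one,
      pow_zero, pow_one, hχ] at hf
    rw [← hf]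
    push_cast
    ring
  · rw [h1, hf, irr_one_eq] at hn
    have : ((f + n : ℕ) : ℂ) = (charDegree (χ : G → ℂ) : ℂ) := by push_cast; linear_combination -hn
    exact_mod_cast this
  · have h2 : T = 1 := (sub_eq_zero.mp (hn0 h0)).symm
    have h3 := Inv.mul_avg ρ g
    rw [show Inv.avg ρ g = 1 from h2, mul_one] at h3
    rw [← hχ, Representation.character, Representation.character, h3, map_one ρ]

/-- Sums over `P`. -/
theorem sum_P (h : Diag P u v) (χ : Cfsg.IrrCharacter G) :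
    ∃ k : ℕ, (χ : G → ℂ) 1 + 2 * (χ : G → ℂ) u + 2 * (χ : G → ℂ) v + 4 * (χ : G → ℂ) (u * v) =
      9 * (k : ℂ) := by
  classical
  haveI : Fintype (P : Subgroup G) := Fintype.ofFinite _
  let F : Fin 3 × Fin 3 → (P : Subgroup G) := fun p =>
    ⟨u ^ (p.1 : ℕ) * v ^ (p.2 : ℕ), mul_mem (pow_mem h.mem_a _) (pow_mem h.mem_b _)⟩
  have hsurj : Function.Surjective F := fun y => by
    obtain ⟨i, j, hi, hj, e'⟩ := h.gen y y.2
    exact ⟨(⟨i, hi⟩, ⟨j, hj⟩), Subtype.ext e'.symm⟩
  have hbij : Function.Bijective F := (Fintype.bijective_iff_surjective_and_card F).mpr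
    ⟨hsurj, by rw [← Nat.card_eq_fintype_card, ← Nat.card_eq_fintype_card, h.card]; simp⟩
  obtain ⟨k, hk⟩ := CharCore.IsCharacter.exists_classInner_eq_natCast
    (CharCore.isCharacter_restrict (CharCore.irr_isCharacter χ) (P : Subgroup G))
    (CharCore.isCharacter_one (G := (P : Subgroup G)))
  refine ⟨k, ?_⟩
  rw [CharCore.classInner_def, h.card, ← Fintype.sum_bijective F hbij _ _ fun _ => rfl,
    inv_mul_eq_iff_eq_mul₀ (by norm_num)] at hk
  simp only [Pi.one_apply, map_one, mul_one, Fintype.sum_prod_type, Fin.sum_univ_three, F,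
    Fin.val_zero, Fin.val_one, Fin.val_two, pow_zero, pow_one, one_mul, mul_one,
    Nat.cast_ofNat] at hk
  have hc : ∀ i j, (i = 1 ∨ i = 2) → (j = 1 ∨ j = 2) →
      (χ : G → ℂ) (u ^ i * v ^ j) = (χ : G → ℂ) (u * v) := fun i j hi hj => by
    obtain ⟨c, hc⟩ := isConj_iff.mp (h.isConj_cases hi hj)
    rw [← hc, irr_class χ (u * v) c]
  have hu : (χ : G → ℂ) (u ^ 2) = (χ : G → ℂ) u := by
    obtain ⟨c, hc⟩ := isConj_iff.mp h.isConj_inv
    rw [show u ^ 2 = u⁻¹ from eq_inv_of_mul_eq_one_left (by rw [← pow_succ, h.pow_a]), ← hc,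
      irr_class χ u c]
  have hv : (χ : G → ℂ) (v ^ 2) = (χ : G → ℂ) v := by
    obtain ⟨c, hc⟩ := isConj_iff.mp h.swap.isConj_inv
    rw [show v ^ 2 = v⁻¹ from eq_inv_of_mul_eq_one_left (by rw [← pow_succ, h.pow_b]), ← hc,
      irr_class χ v c]
  have h12 := hc 1 2 (Or.inl rfl) (Or.inr rfl)
  have h21 := hc 2 1 (Or.inr rfl) (Or.inl rfl)
  have h22 := hc 2 2 (Or.inr rfl) (Or.inr rfl)
  simp only [pow_one] at h12 h21
  simp only [hu, hv, h12, h21, h22] at hk
  linear_combination hk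

/-- There is no nontrivial character of degree two or three. -/
theorem not_small [IsSimpleGroup G] (h : Diag P u v) {χ : Cfsg.IrrCharacter G}
    (hχ : χ ≠ oneIrr G) :
    charDegree (χ : G → ℂ) ≠ 2 ∧ charDegree (χ : G → ℂ) ≠ 3 := by
  have key : ∀ g : G, orderOf g = 3 → IsConj g (g ^ 2) → ∃ (f : ℕ) (z : ℤ),
      f < charDegree (χ : G → ℂ) ∧ (χ : G → ℂ) g = (z : ℂ) ∧
        (charDegree (χ : G → ℂ) : ℤ) + 2 * z = 3 * f := by
    intro g hg hc
    obtain ⟨f, n, hf, hn, hn0⟩ := exists_fix χ hg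
    obtain ⟨c, hc⟩ := isConj_iff.mp hc
    rw [← hc, irr_class χ g c, irr_one_eq] at hf
    have hn1 : n ≠ 0 := fun h0 => by
      have := faithful hχ g (hn0 h0)
      rw [this, orderOf_one] at hg
      norm_num at hg
    obtain ⟨z, hz⟩ : ∃ z : ℤ, (z : ℚ) = ((3 * (f : ℚ) - charDegree (χ : G → ℂ)) / 2) := by
      have hint : IsIntegral ℤ ((((3 * (f : ℚ) - charDegree (χ : G → ℂ)) / 2 : ℚ)) : ℂ) := by
        push_cast
        rw [show ((3 * (f : ℂ) - charDegree (χ : G → ℂ)) / 2) = (χ : G → ℂ) g by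
          linear_combination -(1 / 2 : ℂ) * hf]
        exact CharCore.IsCharacter.isIntegral (CharCore.irr_isCharacter χ) g
      have h2 : IsIntegral ℤ ((3 * (f : ℚ) - charDegree (χ : G → ℂ)) / 2) :=
        (isIntegral_algHom_iff (Rat.castHom ℂ).toIntAlgHom Rat.cast_injective).mp hint
      obtain ⟨z, hz⟩ := IsIntegrallyClosed.isIntegral_iff.mp h2
      exact ⟨z, by rw [← hz]; simp⟩
    refine ⟨f, z, by omega, ?_, ?_⟩
    · have : ((z : ℚ) : ℂ) = (((3 * (f : ℚ) - charDegree (χ : G → ℂ)) / 2 : ℚ) : ℂ) := by rw [hz]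
      push_cast at this
      linear_combination (1 / 2 : ℂ) * hf - this
    · have : ((charDegree (χ : G → ℂ) : ℤ) + 2 * z : ℚ) = ((3 * f : ℤ) : ℚ) := by
        push_cast; rw [hz]; ring
      exact_mod_cast this
  have ha2 : ∀ {x : G}, x ^ 3 = 1 → x ^ 2 = x⁻¹ := fun hx =>
    eq_inv_of_mul_eq_one_left (by rw [← pow_succ, hx])
  obtain ⟨fa, za, ha1, ha3, ha4⟩ := key u h.order_a (ha2 h.pow_a ▸ h.isConj_inv)
  obtain ⟨fb, zb, hb1, hb3, hb4⟩ := key v h.order_b (ha2 h.pow_b ▸ h.swap.isConj_inv)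
  have hcomm : Commute u v := h.comm u h.mem_a v h.mem_b
  have huv : (u * v) ^ 3 = 1 := by rw [hcomm.mul_pow, h.pow_a, h.pow_b, one_mul]
  obtain ⟨fc, zc, hc1, hc3, hc4⟩ := key (u * v)
    (orderOf_eq_prime huv fun e => h.not_mem_mul.1 (e ▸ one_mem _))
    (by rw [hcomm.mul_pow]; exact h.isConj_cases (Or.inr rfl) (Or.inr rfl))
  obtain ⟨k, hk⟩ := sum_P h χ
  rw [ha3, hb3, hc3, irr_one_eq] at hk
  have hk' : (charDegree (χ : G → ℂ) : ℤ) + 2 * za + 2 * zb + 4 * zc = 9 * k := by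
    exact_mod_cast hk
  constructor <;> intro hd <;> rw [hd] at ha1 ha4 hb1 hb4 hc1 hc4 hk' <;> omega

theorem isConj_c_inv (h : Diag P u v) : IsConj (u * v) (u * v)⁻¹ := by
  have hcomm : Commute u v := h.comm u h.mem_a v h.mem_b
  rw [hcomm.mul_inv, ← show u ^ 2 = u⁻¹ from eq_inv_of_mul_eq_one_left (by rw [← pow_succ, h.pow_a]),
    ← show v ^ 2 = v⁻¹ from eq_inv_of_mul_eq_one_left (by rw [← pow_succ, h.pow_b])]
  exact h.isConj_cases (Or.inr rfl) (Or.inr rfl)

/-- The coefficients of `δ` are the values at `u * v` in the principal block. -/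
theorem delta_spec (h : Diag P u v) (he : InertTwo.IsPExp 3 G e) (χ : Cfsg.IrrCharacter G) :
    co (fδ e u v) χ ≠ 0 → (3 : ℤ) ∣ co (fδ e u v) χ - (charDegree (χ : G → ℂ) : ℤ) := by
  classical
  obtain ⟨M, hM⟩ := Blocks88.exists_isPModular Nat.prime_three
  have := isPrime hM
  obtain ⟨K, hKn, hK3, hK, hKi, hC⟩ := exists_card_centralizer_c h
  haveI := hKn
  obtain ⟨k, hk⟩ := exists_orderOf h
  have hreal : ∀ χ : Cfsg.IrrCharacter G, (χ : G → ℂ) (u * v)⁻¹ = (χ : G → ℂ) (u * v) := fun χ => by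
    obtain ⟨c, hc⟩ := isConj_iff.mp (isConj_c_inv h)
    rw [← hc, irr_class χ _ c]
  have hgen := gen_fδ h he
  have hmem : ∀ χ ∈ members M G, (co (fδ e u v) χ : ℂ) = (χ : G → ℂ) (u * v) := by
    intro χ hχ
    rw [co_spec hgen, CharCore.classInner_def]
    have hs := sum_sec he (exists_orderOf h) (F := fun g => conj ((χ : G → ℂ) g))
      fun g c => by simp only [irr_class χ g c]
    have hconst : ∀ x : {x : centralizer ({u * v} : Set G) // ¬ 3 ∣ orderOf x},
        conj ((χ : G → ℂ) (u * v * (x.1 : G))) = (χ : G → ℂ) (u * v) := fun x => by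
      rw [SectionKernel.apply_mul hM hk hK3 (fun y hy => (hK y).mp hy) (mem_members.mp hχ)
        ((hK x.1).mp x.2), ← CharCore.irr_apply_inv, hreal]
    simp only [hconst, Finset.sum_const, Finset.card_univ, nsmul_eq_mul] at hs
    rw [← Nat.card_eq_fintype_card, Nat.card_congr (Equiv.subtypeEquivRight fun x => hK x),
      hC] at hs
    push_cast at hs
    simp only [fδ, mul_assoc, ← Finset.mul_sum]
    have hK0 : (Nat.card K : ℂ) ≠ 0 := Nat.cast_ne_zero.mpr Nat.card_pos.ne'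
    rw [inv_mul_eq_iff_eq_mul₀ (Nat.cast_ne_zero.mpr Nat.card_pos.ne')]
    refine mul_right_cancel₀ hK0 ?_
    linear_combination hs
  intro hne
  have hin : χ ∈ members M G := by
    by_contra hout
    have hn := SectionKernel.sum_norm hM hk hK3 (fun y hy => (hK y).mp hy)
    rw [hKi, ← Finset.sum_subset (Finset.subset_univ (members M G)) (fun χ _ hχ =>
      Set.indicator_of_notMem (fun hc => hχ (mem_members.mpr hc)) _),
      Finset.sum_congr rfl (g := fun χ => ((co (fδ e u v) χ * co (fδ e u v) χ : ℤ) : ℂ))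
        (fun χ hχ => by
          rw [Set.indicator_of_mem (mem_members.mp hχ), hreal, ← hmem χ hχ, Int.cast_mul])] at hn
    have hall : ((∑ χ, co (fδ e u v) χ * co (fδ e u v) χ : ℤ) : ℂ) = 9 := by
      rw [sum_co_mul hgen hgen, CharCore.classInner_def]
      simp only [fδ, map_mul, map_ofNat, conj_sec]
      rw [Finset.sum_congr rfl fun g _ => show 9 * sec e (u * v) g * (9 * sec e (u * v) g) =
        81 * sec e (u * v) g by linear_combination (81 : ℂ) * sec_mul_self e (u * v) g,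
        ← Finset.mul_sum, inv_mul_eq_iff_eq_mul₀ (Nat.cast_ne_zero.mpr Nat.card_pos.ne')]
      linear_combination (9 : ℂ) * sum_sec_c h he
    have h1 : (∑ χ ∈ members M G, co (fδ e u v) χ * co (fδ e u v) χ : ℤ) = 9 := by
      rw [← Int.cast_sum] at hn; exact_mod_cast hn
    have h2 : (∑ χ, co (fδ e u v) χ * co (fδ e u v) χ : ℤ) = 9 := by exact_mod_cast hall
    have h3 := Finset.sum_le_sum_of_subset_of_nonneg
      (Finset.subset_univ (insert χ (members M G)))
      (fun i _ _ => mul_self_nonneg (co (fδ e u v) i))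
    rw [Finset.sum_insert hout, h1, h2] at h3
    have := mul_self_pos.mpr hne
    omega
  obtain ⟨f, n, hf, -, -⟩ := exists_fix χ (g := u * v) (orderOf_eq_prime
    (by rw [(show Commute u v from h.comm u h.mem_a v h.mem_b).mul_pow, h.pow_a, h.pow_b, one_mul])
    fun e' => h.not_mem_mul.1 (e' ▸ one_mem _))
  have h2 : (u * v) ^ 2 = (u * v)⁻¹ := eq_inv_of_mul_eq_one_left (by
    rw [← pow_succ, (show Commute u v from h.comm u h.mem_a v h.mem_b).mul_pow, h.pow_a, h.pow_b,
      one_mul])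
  rw [h2, hreal, ← hmem χ hin, irr_one_eq] at hf
  have hf' : (charDegree (χ : G → ℂ) : ℤ) + co (fδ e u v) χ + co (fδ e u v) χ = 3 * f := by
    exact_mod_cast hf
  omega

/-- Values of products and means. -/
theorem inner_base (h : Diag P u v) (he : InertTwo.IsPExp 3 G e) :
    (ip (co (fA e u v)) (co (fA e u v)) = 3) ∧
    (ip (co (fA e u v)) (co (fA e v u)) = 1) ∧
    (ip (co (fδ e u v)) (co (fA e u v)) = 3) ∧
    (ip (co (fδ e u v)) (co (fδ e u v)) = 9) ∧
    co (fA e u v) (oneIrr G) = 1 ∧ co (fδ e u v) (oneIrr G) = 1 ∧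
    ip (co (fA e u v)) (fun χ => (charDegree (χ : G → ℂ) : ℤ)) = 0 ∧
    ip (co (fδ e u v)) (fun χ => (charDegree (χ : G → ℂ) : ℤ)) = 0 := by
  obtain ⟨n1, n2, n3, n4, n5, n6⟩ := h.not_isConj
  have hA := gen_fA h he
  have hA' := gen_fA h.swap he
  have hδ := gen_fδ h he
  have hc := sum_sec_c h he
  have ha := sum_sec_a h he
  have hG : (Nat.card G : ℂ) ≠ 0 := Nat.cast_ne_zero.mpr Nat.card_pos.ne'
  have e11 := fun g => sec_mul_self e u g
  have ecc := fun g => sec_mul_self e (u * v) g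
  have eac := fun g => sec_mul_of_not e n2 g
  have ebc := fun g => sec_mul_of_not e n3 g
  have eab := fun g => sec_mul_of_not e n1 g
  have hcb : v * u = u * v := h.comm v h.mem_b u h.mem_a
  have main : ∀ (F F' : G → ℂ) (p r : ℂ) (N : ℤ), Cfsg.IsGeneralizedCharacter G F →
      Cfsg.IsGeneralizedCharacter G F' →
      (∀ g, F g * conj (F' g) = p * sec e u g + r * sec e (u * v) g) → 2 * p + r = 9 * N →
      ip (co F) (co F') = N := by
    intro F F' p r N hF hF' hpt hN
    apply Int.cast_injective (α := ℂ)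
    rw [ip, sum_co_mul hF hF', CharCore.classInner_def, Finset.sum_congr rfl fun g _ => hpt g,
      Finset.sum_add_distrib, ← Finset.mul_sum, ← Finset.mul_sum,
      inv_mul_eq_iff_eq_mul₀ hG]
    linear_combination (p / 9) * ha + (r / 9) * hc + ((Nat.card G : ℂ) / 9) * hN
  refine ⟨main _ _ 9 9 3 hA hA (fun g => ?_) (by norm_num),
    main _ _ 0 9 1 hA hA' (fun g => ?_) (by norm_num),
    main _ _ 0 27 3 hδ hA (fun g => ?_) (by norm_num),
    main _ _ 0 81 9 hδ hδ (fun g => ?_) (by norm_num), ?_, ?_, ?_, ?_⟩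
  · simp only [fA, map_mul, map_add, map_ofNat, conj_sec]
    linear_combination (9 : ℂ) * e11 g + (9 : ℂ) * ecc g + (18 : ℂ) * eac g
  · simp only [fA, map_mul, map_add, map_ofNat, conj_sec, hcb]
    linear_combination (9 : ℂ) * eab g + (9 : ℂ) * ecc g + (9 : ℂ) * eac g + (9 : ℂ) * ebc g
  · simp only [fA, fδ, map_mul, map_add, map_ofNat, conj_sec]
    linear_combination (27 : ℂ) * eac g + (27 : ℂ) * ecc g
  · simp only [fδ, map_mul, map_ofNat, conj_sec]
    linear_combination (81 : ℂ) * ecc g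
  · apply Int.cast_injective (α := ℂ)
    rw [co_spec hA, CharCore.classInner_def]
    simp only [coe_oneIrr, map_one, mul_one, fA, ← Finset.mul_sum, Finset.sum_add_distrib,
      Int.cast_one]
    rw [inv_mul_eq_iff_eq_mul₀ hG]
    linear_combination (1 / 3 : ℂ) * ha + (1 / 3 : ℂ) * hc
  · apply Int.cast_injective (α := ℂ)
    rw [co_spec hδ, CharCore.classInner_def]
    simp only [coe_oneIrr, map_one, mul_one, fδ, ← Finset.mul_sum, Int.cast_one]
    rw [inv_mul_eq_iff_eq_mul₀ hG]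
    linear_combination hc
  all_goals
    apply Int.cast_injective (α := ℂ)
    rw [ip, Int.cast_zero]
  · rw [sum_co_deg hA]
    have e1 : sec e u (1 : G) = 0 := by unfold sec; rw [one_pow, if_neg n4]
    have e2 : sec e (u * v) (1 : G) = 0 := by unfold sec; rw [one_pow, if_neg n6]
    simp [fA, e1, e2]
  · rw [sum_co_deg hδ]
    have e2 : sec e (u * v) (1 : G) = 0 := by unfold sec; rw [one_pow, if_neg n6]
    simp [fδ, e2]

theorem inner_twist (h : Diag P u v) (he : InertTwo.IsPExp 3 G e) {M : Subgroup G}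
    (hM : Sign P u M) :
    ip (co (fP e u v M)) (co (fP e u v M)) = 3 ∧
    ip (co (fA e u v)) (co (fP e u v M)) = 0 ∧
    ip (co (fA e v u)) (co (fP e u v M)) = 1 ∧
    ip (co (fδ e u v)) (co (fP e u v M)) = 3 ∧
    co (fP e u v M) (oneIrr G) = 0 ∧
    ip (co (fP e u v M)) (fun χ => (charDegree (χ : G → ℂ) : ℤ)) = 0 ∧
    ∀ (M' : Subgroup G), Sign P v M' → ip (co (fP e u v M)) (co (fP e v u M')) = 1 := by
  obtain ⟨n1, n2, n3, n4, n5, n6⟩ := h.not_isConj
  have hP := gen_fP h he hM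
  have hA := gen_fA h he
  have hA' := gen_fA h.swap he
  have hδ := gen_fδ h he
  have hc := sum_sec_c h he
  have ha := sum_sec_a h he
  have ht := sum_sec_tw h he hM
  have hG : (Nat.card G : ℂ) ≠ 0 := Nat.cast_ne_zero.mpr Nat.card_pos.ne'
  have hcb : v * u = u * v := h.comm v h.mem_b u h.mem_a
  have hval : ∀ g, fP e u v M g = 3 * (sec e u g * tw e u M g) + 3 * sec e (u * v) g := by
    intro g
    simp only [fP, fA]
    by_cases hg : IsConj (g ^ e) u
    · have : sec e (u * v) g = 0 := by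
        unfold sec; rw [if_neg fun h' => n2 (hg.symm.trans h')]
      rw [this]; ring
    · rw [tw_of_not hg]; ring
  have htt : ∀ g, sec e u g * tw e u M g * (sec e u g * tw e u M g) = sec e u g := fun g => by
    rcases tw_cases e u M g with h1 | h1 <;> rw [h1] <;>
      linear_combination sec_mul_self e u g
  have hct : ∀ g, conj (tw e u M g) = tw e u M g := fun g => by
    rcases tw_cases e u M g with h1 | h1 <;> rw [h1] <;> simp
  have ecc := fun g => sec_mul_self e (u * v) g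
  have eac := fun g => sec_mul_of_not e n2 g
  have ebc := fun g => sec_mul_of_not e n3 g
  have eab := fun g => sec_mul_of_not e n1 g
  have main : ∀ (F F' : G → ℂ) (p r s : ℂ) (N : ℤ), Cfsg.IsGeneralizedCharacter G F →
      Cfsg.IsGeneralizedCharacter G F' →
      (∀ g, F g * conj (F' g) = p * sec e u g + r * sec e (u * v) g +
        s * (sec e u g * tw e u M g)) → 2 * p + r - s = 9 * N →
      ip (co F) (co F') = N := by
    intro F F' p r s N hF hF' hpt hN
    apply Int.cast_injective (α := ℂ)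
    rw [ip, sum_co_mul hF hF', CharCore.classInner_def, Finset.sum_congr rfl fun g _ => hpt g,
      Finset.sum_add_distrib, Finset.sum_add_distrib, ← Finset.mul_sum, ← Finset.mul_sum,
      ← Finset.mul_sum, inv_mul_eq_iff_eq_mul₀ hG]
    linear_combination (p / 9) * ha + (r / 9) * hc + (s / 9) * ht + ((Nat.card G : ℂ) / 9) * hN
  refine ⟨main _ _ 9 9 0 3 hP hP (fun g => ?_) (by norm_num),
    main _ _ 0 9 9 0 hA hP (fun g => ?_) (by norm_num),
    main _ _ 0 9 0 1 hA' hP (fun g => ?_) (by norm_num),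
    main _ _ 0 27 0 3 hδ hP (fun g => ?_) (by norm_num), ?_, ?_,
    fun M' hM' => main _ _ 0 9 0 1 hP (gen_fP h.swap he hM') (fun g => ?_) (by norm_num)⟩
  · simp only [hval, map_mul, map_add, map_ofNat, conj_sec, hct]
    linear_combination (9 : ℂ) * htt g + (9 : ℂ) * ecc g + 18 * tw e u M g * eac g
  · simp only [hval, fA, map_mul, map_add, map_ofNat, conj_sec, hct]
    linear_combination 9 * tw e u M g * sec_mul_self e u g + (9 : ℂ) * ecc g +
      (9 + 9 * tw e u M g) * eac g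
  · simp only [hval, fA, map_mul, map_add, map_ofNat, conj_sec, hct, hcb]
    linear_combination 9 * tw e u M g * eab g + (9 : ℂ) * ecc g + 9 * tw e u M g * eac g +
      (9 : ℂ) * ebc g
  · simp only [hval, fδ, map_mul, map_add, map_ofNat, conj_sec, hct]
    linear_combination 27 * tw e u M g * eac g + (27 : ℂ) * ecc g
  · apply Int.cast_injective (α := ℂ)
    rw [co_spec hP, CharCore.classInner_def]
    simp only [coe_oneIrr, map_one, mul_one, hval, ← Finset.mul_sum, Finset.sum_add_distrib,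
      Int.cast_zero]
    rw [inv_mul_eq_iff_eq_mul₀ hG]
    linear_combination (1 / 3 : ℂ) * ht + (1 / 3 : ℂ) * hc
  · apply Int.cast_injective (α := ℂ)
    rw [ip, Int.cast_zero, sum_co_deg hP, hval]
    have e1 : sec e u (1 : G) = 0 := by unfold sec; rw [one_pow, if_neg n4]
    have e2 : sec e (u * v) (1 : G) = 0 := by unfold sec; rw [one_pow, if_neg n6]
    simp [e1, e2]
  · have hct' : conj (tw e v M' g) = tw e v M' g := by
      rcases tw_cases e v M' g with h1 | h1 <;> rw [h1] <;> simp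
    have hval' : fP e v u M' g = 3 * (sec e v g * tw e v M' g) + 3 * sec e (u * v) g := by
      simp only [fP, fA, hcb]
      by_cases hg : IsConj (g ^ e) v
      · have : sec e (u * v) g = 0 := by
          unfold sec; rw [if_neg fun h' => n3 (hg.symm.trans h')]
        rw [this]; ring
      · rw [tw_of_not hg]; ring
    simp only [hval, hval', map_mul, map_add, map_ofNat, conj_sec, hct']
    linear_combination 9 * tw e u M g * tw e v M' g * eab g + 9 * tw e u M g * eac g +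
      9 * tw e v M' g * ebc g + (9 : ℂ) * ecc g

/-- A pair is good, or its first member has coefficient two in `δ`. -/
theorem pair_cases {ι : Type*} [Fintype ι] [DecidableEq ι] {o : ι} {A δ : ι → ℤ}
    (hAo : A o = 1) (hδo : δ o = 1) (hAA : ip A A = 3) (hδA : ip δ A = 3) (hδδ : ip δ δ = 9) :
    (∀ i, i ≠ o → A i ≠ 0 → δ i = A i) ∨
      ∃ X Y, o ≠ X ∧ o ≠ Y ∧ X ≠ Y ∧ (A X = 1 ∨ A X = -1) ∧ (A Y = 1 ∨ A Y = -1) ∧
        δ X = 2 * A X ∧ δ Y = 0 ∧ ∀ g, ip A g = g o + A X * g X + A Y * g Y := by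
  obtain ⟨X, Y, hoX, hoY, hXY, hX, hY, h0, hip⟩ := exists_support hAA (x := o) (by rw [hAo]; norm_num)
  have h1 := (hip δ).symm.trans ((ip_comm A δ).trans hδA)
  rw [hAo, hδo] at h1
  have hs := sum_sq_le {o, X, Y} δ
  rw [Finset.sum_insert (by simp [hoX, hoY]), Finset.sum_insert (by simp [hXY]),
    Finset.sum_singleton, hδo, hδδ] at hs
  have hxb : δ X < 3 ∧ -3 < δ X := ⟨by nlinarith, by nlinarith⟩
  have hyb : δ Y < 3 ∧ -3 < δ Y := ⟨by nlinarith, by nlinarith⟩
  have hcases : (δ X = A X ∧ δ Y = A Y) ∨ (δ X = 2 * A X ∧ δ Y = 0) ∨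
      (δ X = 0 ∧ δ Y = 2 * A Y) := by
    rcases hX with e1 | e1 <;> rcases hY with e2 | e2 <;> rw [e1, e2] at h1 ⊢ <;> omega
  rcases hcases with ⟨e1, e2⟩ | ⟨e1, e2⟩ | ⟨e1, e2⟩
  · left
    intro i hi hAi
    by_cases hiX : i = X
    · rw [hiX, e1]
    · by_cases hiY : i = Y
      · rw [hiY, e2]
      · exact absurd (h0 i hi hiX hiY) hAi
  · exact Or.inr ⟨X, Y, hoX, hoY, hXY, hX, hY, e1, e2, fun g => by rw [hip, hAo, one_mul]⟩
  · exact Or.inr ⟨Y, X, hoY, hoX, hXY.symm, hY, hX, e2, e1,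
      fun g => by rw [hip, hAo, one_mul]; ring⟩

/-- One of the two pairs is good. -/
theorem exists_good (h : Diag P u v) (he : InertTwo.IsPExp 3 G e) :
    (∀ χ, χ ≠ oneIrr G → co (fA e u v) χ ≠ 0 → co (fδ e u v) χ = co (fA e u v) χ) ∨
      (∀ χ, χ ≠ oneIrr G → co (fA e v u) χ ≠ 0 → co (fδ e v u) χ = co (fA e v u) χ) := by
  classical
  obtain ⟨a1, a2, a3, a4, a5, a6, a7, a8⟩ := inner_base h he
  obtain ⟨b1, -, b3, -, b5, -, b7, -⟩ := inner_base h.swap he
  rw [fδ_swap h] at b3 ⊢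
  refine (pair_cases a5 a6 a1 a3 a4).imp id fun hbad => ?_
  refine (pair_cases b5 a6 b1 b3 a4).resolve_right fun hbad' => ?_
  obtain ⟨X, Y, hoX, hoY, hXY, hX, hY, dX, dY, hipA⟩ := hbad
  obtain ⟨X', Y', hoX', hoY', hXY', hX', hY', dX', dY', hipA'⟩ := hbad'
  have hne : X ≠ X' := by
    intro e'
    subst e'
    have hA1 := (hipA _).symm.trans a2
    rw [b5, show co (fA e v u) X = co (fA e u v) X by omega] at hA1
    have hy : co (fA e v u) Y ≠ 0 := fun h0 => by
      rw [h0, mul_zero] at hA1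
      rcases hX with e1 | e1 <;> rw [e1] at hA1 <;> omega
    have hz := b7
    rw [hipA'] at hz
    have hz' := a7
    rw [hipA] at hz'
    have hYY : Y = Y' := by
      by_contra hne'
      have hb := b1
      have hs := sum_sq_le {oneIrr G, X, Y, Y'} (co (fA e v u))
      rw [Finset.sum_insert (by simp [hoX, hoY, hoY']), Finset.sum_insert (by simp [hXY, hXY']),
        Finset.sum_insert (by simp [hne']), Finset.sum_singleton, b5, hb] at hs
      have := mul_self_pos.mpr hy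
      rcases hX' with e1 | e1 <;> rcases hY' with e2 | e2 <;> rw [e1, e2] at hs <;> omega
    subst hYY
    have hpos : (0 : ℤ) < (charDegree (Y : G → ℂ) : ℤ) := by exact_mod_cast charDegree_pos Y
    have hXA : co (fA e v u) X = co (fA e u v) X := by omega
    rw [hXA] at hz
    rcases hX with e1 | e1 <;> rcases hY with e2 | e2 <;> rcases hY' with e3 | e3 <;>
      rw [e1, e2, e3] at hA1 <;> rw [e1, e3] at hz <;> rw [e1, e2] at hz' <;> omega
  have h0 : ∀ χ, χ ≠ oneIrr G → χ ≠ X → χ ≠ X' → co (fδ e u v) χ = 0 := by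
    intro χ c1 c2 c3
    by_contra hc
    have hs := sum_sq_le {oneIrr G, X, X', χ} (co (fδ e u v))
    rw [Finset.sum_insert (by simp [hoX, hoX', Ne.symm c1]),
      Finset.sum_insert (by simp [hne, Ne.symm c2]), Finset.sum_insert (by simp [Ne.symm c3]),
      Finset.sum_singleton, a6, a4, dX, dX'] at hs
    have := mul_self_pos.mpr hc
    rcases hX with e1 | e1 <;> rcases hX' with e2 | e2 <;> rw [e1, e2] at hs <;> omega
  have hD := a8
  rw [ip_of_support hoX hoX' hne h0, a6, dX, dX',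
    show (charDegree ((oneIrr G : Cfsg.IrrCharacter G) : G → ℂ) : ℤ) = 1 from ?_] at hD
  · rcases hX with e1 | e1 <;> rcases hX' with e2 | e2 <;> rw [e1, e2] at hD <;> omega
  · apply Int.cast_injective (α := ℂ)
    push_cast
    rw [← irr_one_eq]
    rfl

theorem false_of_good [IsSimpleGroup G] (hG : ¬ IsMulCommutative G) {q a b : ℕ} (hq : q.Prime)
    (hq2 : q ≠ 2) (hq3 : q ≠ 3) (hcard : Nat.card G = 9 * 2 ^ a * q ^ b) (h : Diag P u v)
    (he : InertTwo.IsPExp 3 G e)
    (hgood : ∀ χ, χ ≠ oneIrr G → co (fA e u v) χ ≠ 0 → co (fδ e u v) χ = co (fA e u v) χ) :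
    False := by
  classical
  obtain ⟨a1, a2, a3, a4, a5, a6, a7, a8⟩ := inner_base h he
  set D : Cfsg.IrrCharacter G → ℤ := fun χ => (charDegree (χ : G → ℂ) : ℤ) with hD
  obtain ⟨X, Y, hoX, hoY, hXY, hX, hY, -, hip⟩ :=
    exists_support a1 (x := oneIrr G) (by rw [a5]; norm_num)
  have hDo : D (oneIrr G) = 1 := by
    apply Int.cast_injective (α := ℂ)
    rw [hD]; push_cast
    rw [← irr_one_eq]
    rfl
  have hcong : ∀ χ, (co (fδ e u v) χ = 1 ∨ co (fδ e u v) χ = -1) →
      (co (fδ e u v) χ * D χ) % 3 = 1 ∧ ¬ 3 ∣ charDegree (χ : G → ℂ) := by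
    intro χ hχ
    have h1 := delta_spec h he χ (by omega)
    rcases hχ with e1 | e1 <;> rw [e1] at h1 ⊢ <;> simp only [hD] <;> omega
  have hdvd : ∀ {χ}, ¬ 3 ∣ charDegree ((χ : Cfsg.IrrCharacter G) : G → ℂ) →
      charDegree (χ : G → ℂ) ∣ 2 ^ a * q ^ b := fun h3 =>
    dvd_of_not_three (n := Nat.card G) (by rw [hcard]; ring) (charDegree_dvd_card _) h3
  have hδX := hgood X hoX.symm (by omega)
  have hδY := hgood Y hoY.symm (by omega)
  have hcX := hcong X (by rw [hδX]; exact hX)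
  have hcY := hcong Y (by rw [hδY]; exact hY)
  rw [hδX] at hcX
  rw [hδY] at hcY
  have hsum := (hip D).symm.trans a7
  rw [a5, hDo, one_mul] at hsum
  have hdX := one_lt_deg hG hoX.symm
  have hdY := one_lt_deg hG hoY.symm
  have hadj : charDegree (X : G → ℂ) + 1 = charDegree (Y : G → ℂ) ∨
      charDegree (Y : G → ℂ) + 1 = charDegree (X : G → ℂ) := by
    rcases hX with e1 | e1 <;> rcases hY with e2 | e2 <;> rw [e1, e2] at hsum <;>
      simp only [hD] at hsum <;> omega
  obtain ⟨i, hi1, hcases, hq'⟩ := exists_split hq hq2 hq3 (hdvd hcX.2) (hdvd hcY.2) hdX hdY hadj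
  have hb : b = 1 := by
    rcases hcases with ⟨-, e1⟩ | ⟨e1, -⟩
    · exact exponent_one hG hq hq2 hq3 hcard (χ := Y) e1
    · exact exponent_one hG hq hq2 hq3 hcard (χ := X) e1
  subst hb
  rw [pow_one] at hcard
  simp only [pow_one] at hdvd
  have hexp : ∀ y ∈ (P : Subgroup G), y ^ 3 = 1 := fun y hy => by
    obtain ⟨i', j', -, -, rfl⟩ := h.gen y hy
    rw [(show Commute u v from h.comm u h.mem_a v h.mem_b).pow_pow i' j' |>.mul_pow, ← pow_mul,
      mul_comm i', pow_mul, h.pow_a, one_pow, ← pow_mul, mul_comm j', pow_mul, h.pow_b, one_pow,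
      one_mul]
  rcases small_or_nine hG hq hq2 hq3 hcard hi1 hq' with hsmall | ⟨S, -, x, -, hx⟩
  swap
  · obtain ⟨c, hc⟩ := Transfer.exists_conj_mem_sylow P (x := x) (k := 2) (by rw [hx]; norm_num)
    have h1 : (c * x * c⁻¹) ^ 3 = 1 := hexp _ hc
    rw [conj_pow, conj_eq_one_iff] at h1
    have := orderOf_dvd_of_pow_eq_one h1
    rw [hx] at this
    norm_num at this
  -- the sign subgroups
  have hyq : ∀ {y : G}, orderOf y = 3 → ∃ m, Nat.card (centralizer ({y} : Set G)) ∣ 3 ^ 2 * 2 ^ m := by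
    intro y hy
    have hy1 : y ≠ 1 := fun e1 => by rw [e1, orderOf_one] at hy; norm_num at hy
    have hnq := not_dvd_of_central hG hq hq2 hq3 hcard hy1
      (by rw [hy]; exact fun hd => hq3 ((Nat.prime_dvd_prime_iff_eq hq Nat.prime_three).mp hd))
      (H := centralizer ({y} : Set G)) le_rfl
    refine ⟨a, ?_⟩
    have hd := card_subgroup_dvd_card (centralizer ({y} : Set G))
    rw [hcard, show 9 * 2 ^ a * q = 3 ^ 2 * 2 ^ a * q by norm_num] at hd
    exact ((hq.coprime_iff_not_dvd.mpr hnq).symm).dvd_of_dvd_mul_right hd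
  obtain ⟨m, hm⟩ := hyq h.order_a
  obtain ⟨m', hm'⟩ := hyq h.order_b
  obtain ⟨M, hM⟩ := exists_sign h hm
  obtain ⟨M', hM'⟩ := exists_sign h.swap hm'
  obtain ⟨p1, p2, p3, p4, p5, p6, p7⟩ := inner_twist h he hM
  obtain ⟨r1, r2, r3, r4, r5, r6, -⟩ := inner_twist h.swap he hM'
  obtain ⟨b1, -, b3, -, b5, -, b7, -⟩ := inner_base h.swap he
  rw [fδ_swap h] at b3 r4
  have hSS : ∀ (A Q d : Cfsg.IrrCharacter G → ℤ), ip A A = 3 → ip Q Q = 3 → ip d d = 9 →
      ip A Q = 0 → ip d A = 3 → ip d Q = 3 → ip (A + Q - d) (A + Q - d) = 3 := by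
    intro A Q d c1 c2 c3 c4 c5 c6
    rw [ip_sub, ip_add, ip_comm (A + Q - d) A, ip_comm (A + Q - d) Q, ip_comm (A + Q - d) d,
      ip_sub, ip_sub, ip_sub, ip_add, ip_add, ip_add, ip_comm Q A, ip_comm A d, ip_comm Q d,
      c1, c2, c3, c4, c5, c6]
    norm_num
  have H : Hyp (oneIrr G) (co (fA e u v)) (co (fA e v u)) (co (fP e u v M)) (co (fP e v u M'))
      (co (fδ e u v)) D :=
    { A_o := a5, A'_o := b5, P_o := p5, P'_o := r5, δ_o := a6, AA := a1, A'A' := b1, PP := p1,
      P'P' := r1, δδ := a4, δA := a3, δA' := b3, δP := p4, δP' := r4, AA' := a2, AP := p2,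
      A'P' := r2, AP' := r3, A'P := p3, PP' := p7 M' hM',
      SS := hSS _ _ _ a1 p1 a4 p2 a3 p4, S'S' := hSS _ _ _ b1 r1 a4 r2 b3 r4,
      D_o := hDo, AD := a7, A'D := b7, PD := p6, P'D := r6, δD := a8, good := hgood }
  -- signed degrees
  obtain ⟨O, E, hO, hE, hOE, hOs⟩ : ∃ O E : ℤ, O % 2 = 1 ∧ E % 2 = 0 ∧ 1 + O + E = 0 ∧
      ((q = 5 ∧ O = -5) ∨ (q = 7 ∧ O = 7) ∨ (q = 17 ∧ O = -17)) := by
    rcases hsmall with ⟨rfl, -⟩ | ⟨rfl, -⟩ | ⟨rfl, -⟩
    exacts [⟨-5, 4, by norm_num, by norm_num, by norm_num, by norm_num⟩,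
      ⟨7, -8, by norm_num, by norm_num, by norm_num, by norm_num⟩,
      ⟨-17, 16, by norm_num, by norm_num, by norm_num, by norm_num⟩]
  have hent : ∀ n : ℤ, IsEntry (oneIrr G) (co (fδ e u v)) D n →
      (n % 2 = 1 → n = O) ∧ n ≠ 1 ∧ n ≠ 3 * O + 1 ∧ n % 3 = 1 := by
    rintro n ⟨χ, hχ, hδ, rfl⟩
    obtain ⟨hm3, h3⟩ := hcong χ hδ
    have hd := hdvd h3
    have hd1 := one_lt_deg hG hχ
    have hodd : charDegree (χ : G → ℂ) % 2 = 1 → charDegree (χ : G → ℂ) = q := by
      intro ho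
      obtain ⟨j, hj⟩ := prime_pow_of_odd_dvd hq (d := charDegree (χ : G → ℂ)) (b := 1) (a := a)
        (by rwa [pow_one]) (by omega)
      rcases Nat.eq_zero_or_pos j with rfl | hj0
      · rw [pow_zero] at hj; omega
      · have h1 : q ^ j ∣ q ^ 1 := by
          have hcop : Nat.Coprime (q ^ j) (2 ^ a) := Nat.Coprime.pow_left j
            (Nat.Coprime.pow_right a ((Nat.coprime_primes hq Nat.prime_two).mpr hq2))
          rw [pow_one]
          exact hcop.dvd_of_dvd_mul_left (hj ▸ hd)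
        rw [hj, show j = 1 by have := (Nat.pow_dvd_pow_iff_le_right hq.one_lt).mp h1; omega, pow_one]
    have hno : ∀ w k, w.Prime → w ≠ 2 → w ^ k ∣ charDegree (χ : G → ℂ) → 1 ≤ k → w = q ∧ k = 1 := by
      intro w k hw hw2 hwd hk
      have h1 : w ^ k ∣ q := (Nat.Coprime.pow_left k (Nat.Coprime.pow_right a
        ((Nat.coprime_primes hw Nat.prime_two).mpr hw2))).dvd_of_dvd_mul_left (hwd.trans hd)
      have hwq : w = q := (Nat.prime_dvd_prime_iff_eq hw hq).mp
        ((dvd_pow_self w (by omega)).trans h1)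
      subst hwq
      exact ⟨rfl, by
        have := (Nat.pow_dvd_pow_iff_le_right hq.one_lt).mp (h1.trans (dvd_of_eq (pow_one _).symm))
        omega⟩
    refine ⟨fun ho => ?_, ?_, ?_, hm3⟩
    · rcases hδ with e1 | e1 <;> rw [e1] at ho hm3 ⊢ <;> simp only [hD] at ho hm3 ⊢ <;>
        rcases hOs with ⟨rfl, rfl⟩ | ⟨rfl, rfl⟩ | ⟨rfl, rfl⟩ <;> omega
    · rcases hδ with e1 | e1 <;> rw [e1] <;> simp only [hD] <;> omega
    · intro heq
      rcases hOs with ⟨rfl, rfl⟩ | ⟨rfl, rfl⟩ | ⟨rfl, rfl⟩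
      · have hval : charDegree (χ : G → ℂ) = 14 := by
          rcases hδ with e1 | e1 <;> rw [e1] at heq <;> simp only [hD] at heq <;> omega
        have := hno 7 1 (by norm_num) (by norm_num) (by rw [hval]; norm_num) le_rfl
        omega
      · have hval : charDegree (χ : G → ℂ) = 22 := by
          rcases hδ with e1 | e1 <;> rw [e1] at heq <;> simp only [hD] at heq <;> omega
        have := hno 11 1 (by norm_num) (by norm_num) (by rw [hval]; norm_num) le_rfl
        omega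
      · have hval : charDegree (χ : G → ℂ) = 50 := by
          rcases hδ with e1 | e1 <;> rw [e1] at heq <;> simp only [hD] at heq <;> omega
        have := hno 5 2 (by norm_num) (by norm_num) (by rw [hval]; norm_num) (by norm_num)
        omega
  have hpair : ∀ x y : ℤ, IsEntry (oneIrr G) (co (fδ e u v)) D x →
      IsEntry (oneIrr G) (co (fδ e u v)) D y → 1 + x + y = 0 → x = E ∨ x = O := by
    intro x y hx hy hxy
    obtain ⟨x1, -⟩ := hent x hx
    obtain ⟨y1, -⟩ := hent y hy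
    by_cases h2 : x % 2 = 1
    · exact Or.inr (x1 h2)
    · have := y1 (by omega)
      exact Or.inl (by omega)
  rcases shape H with ⟨x, y, hx, hy, X', Y', hoX', hoY', hX', hY', hδX', hxy, hx'y', hyx⟩ |
    ⟨x, y, x', y', w, z, s, t, hx, hy, hx', hy', hw, hz, hs, ht, e1, e2, e3, e4, e5⟩
  · -- bad
    have hyE : y = E := by
      rcases hpair y x hy hx (by linarith) with e1 | e1
      · exact e1
      · omega
    obtain ⟨hn2, hn3⟩ := not_small h hoX'
    obtain ⟨hn2', hn3'⟩ := not_small h hoY'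
    have h9 : charDegree (Y' : G → ℂ) ≠ 9 := by
      intro h9
      have hzero : co (fA e v u) Y' = 0 := by
        apply Int.cast_injective (α := ℂ)
        rw [co_spec (gen_fA h.swap he), CharCore.classInner_def, Int.cast_zero]
        rw [Finset.sum_eq_zero, mul_zero]
        intro g _
        by_cases hg : g ^ e = 1
        · obtain ⟨n1, n2, n3, n4, n5, n6⟩ := h.swap.not_isConj
          have e1 : sec e v g = 0 := by unfold sec; rw [hg, if_neg n4]
          have e2 : sec e (v * u) g = 0 := by unfold sec; rw [hg, if_neg n6]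
          simp [fA, e1, e2]
        · rw [CharInd.char_eq_zero_of_defect_zero Y'.2 3 2 1 (r := 2 ^ a * q)
            (by rw [hcard]; ring) ?_ ?_ g ?_, map_zero, mul_zero]
          · intro h3
            rcases Nat.prime_three.dvd_mul.mp h3 with h3 | h3
            · have := Nat.prime_three.dvd_of_dvd_pow h3; norm_num at this
            · exact hq3 ((Nat.prime_dvd_prime_iff_eq Nat.prime_three hq).mp h3).symm
          · rw [irr_one_eq, h9]; norm_num
          · by_contra h3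
            exact hg ((he.pow_eq_one_iff g).mpr h3)
      omega
    simp only [hD] at hx'y' hyx
    rcases hOs with ⟨-, rfl⟩ | ⟨-, rfl⟩ | ⟨-, rfl⟩ <;> rcases hX' with e1 | e1 <;>
      rcases hY' with e2 | e2 <;> rw [e1] at hx'y' hyx <;> rw [e2] at hx'y' <;> omega
  · refine table_false hOE hO (by rcases hOs with ⟨-, h'⟩ | ⟨-, h'⟩ | ⟨-, h'⟩ <;> omega) ?_
      (hpair x y hx hy e1) (hpair x' y' hx' hy' e2) e1 e2 e3 e4 e5
    rintro n (rfl | rfl | rfl | rfl)
    exacts [⟨(hent _ hw).1, (hent _ hw).2.1, (hent _ hw).2.2.1⟩,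
      ⟨(hent _ hz).1, (hent _ hz).2.1, (hent _ hz).2.2.1⟩,
      ⟨(hent _ hs).1, (hent _ hs).2.1, (hent _ hs).2.2.1⟩,
      ⟨(hent _ ht).1, (hent _ ht).2.1, (hent _ ht).2.2.1⟩]

/-- The diagonal case does not occur. -/
theorem false_of_diag [IsSimpleGroup G] (hG : ¬ IsMulCommutative G) {q a b : ℕ} (hq : q.Prime)
    (hq2 : q ≠ 2) (hq3 : q ≠ 3) (hcard : Nat.card G = 9 * 2 ^ a * q ^ b) (h : Diag P u v) :
    False := by
  obtain ⟨e, he⟩ := InertTwo.exists_isPExp 3 G
  rcases exists_good h he with hg | hg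
  · exact false_of_good hG hq hq2 hq3 hcard h he hg
  · exact false_of_good hG hq hq2 hq3 hcard h.swap he hg

end Cfsg.Agent.NinePQ.Four
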