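import Cfsg.Agent.NinePQ.Four.Coef
import Cfsg.Agent.Lib.BlocksCore.AbelianPrincipal
import Cfsg.Agent.NinePQ.Inv.Trace
import Cfsg.Agent.Lib.Transfer.Focal

/-!
# A Sylow `3`-subgroup of order `9` whose automiser is a diagonal four-group
-/

set_option autoImplicit false
set_option linter.style.haveILetI false
set_option linter.unusedSectionVars false

namespace Cfsg.Agent.NinePQ.Four

open Subgroup Cfsg.Agent.BlocksCore BlocksDefect AbelianPrincipal CyclicPrincipal
open scoped ComplexConjugate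

variable {G : Type*} [Group G]

/-- Two elements generating `P`, inverted independently by the normaliser. -/
structure Diag (P : Sylow 3 G) (a b : G) : Prop where
  card : Nat.card (P : Subgroup G) = 9
  mem_a : a ∈ (P : Subgroup G)
  mem_b : b ∈ (P : Subgroup G)
  pow_a : a ^ 3 = 1
  pow_b : b ^ 3 = 1
  ne_a : a ≠ 1
  indep : b ∉ zpowers a
  gen : ∀ y ∈ (P : Subgroup G), ∃ i j : ℕ, i < 3 ∧ j < 3 ∧ y = a ^ i * b ^ j
  auto : ∀ n ∈ normalizer ((P : Subgroup G) : Set G),
    (n * a * n⁻¹ = a ∨ n * a * n⁻¹ = a⁻¹) ∧ (n * b * n⁻¹ = b ∨ n * b * n⁻¹ = b⁻¹)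
  flip_a : ∃ n ∈ normalizer ((P : Subgroup G) : Set G), n * a * n⁻¹ = a⁻¹ ∧ n * b * n⁻¹ = b
  flip_b : ∃ n ∈ normalizer ((P : Subgroup G) : Set G), n * a * n⁻¹ = a ∧ n * b * n⁻¹ = b⁻¹

variable {P : Sylow 3 G} {a b : G}

theorem Diag.comm [Fact (Nat.Prime 3)] (h : Diag P a b) :
    ∀ x ∈ (P : Subgroup G), ∀ y ∈ (P : Subgroup G), x * y = y * x := fun x hx y hy =>
  have hc : IsMulCommutative (P : Subgroup G) :=
    IsPGroup.isMulCommutative_of_card_eq_prime_sq (p := 3) (by rw [h.card]; norm_num)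
  congrArg Subtype.val (hc.is_comm.comm ⟨x, hx⟩ ⟨y, hy⟩)

theorem Diag.ne_b (h : Diag P a b) : b ≠ 1 := fun e => h.indep (e ▸ one_mem _)

theorem Diag.order_a (h : Diag P a b) : orderOf a = 3 :=
  haveI := Fact.mk Nat.prime_three
  orderOf_eq_prime h.pow_a h.ne_a

theorem Diag.order_b (h : Diag P a b) : orderOf b = 3 :=
  haveI := Fact.mk Nat.prime_three
  orderOf_eq_prime h.pow_b h.ne_b

theorem pow_mem_iff {x : G} (hx : orderOf x = 3) {K : Subgroup G} {j : ℕ} (hj : x ^ j ∈ K)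
    (hj3 : ¬ 3 ∣ j) : x ∈ K := by
  obtain ⟨k, hk⟩ : ∃ k, x ^ (j * k) = x := by
    rcases (show j % 3 = 1 ∨ j % 3 = 2 by omega) with e | e
    · exact ⟨1, by rw [mul_one, ← pow_mod_orderOf, hx, e, pow_one]⟩
    · exact ⟨2, by
        rw [← pow_mod_orderOf, hx, show j * 2 % 3 = 1 by omega, pow_one]⟩
  rw [← hk, pow_mul]
  exact K.pow_mem hj k

theorem Diag.indep' (h : Diag P a b) : a ∉ zpowers b := by
  intro hm
  have e : zpowers a = zpowers b := by
    haveI : Finite (zpowers b) := (finite_zpowers.mpr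
      (orderOf_pos_iff.mp (by rw [h.order_b]; norm_num))).to_subtype
    exact eq_of_le_of_card_ge (zpowers_le.mpr hm)
      (by rw [Nat.card_zpowers, Nat.card_zpowers, h.order_a, h.order_b])
  exact h.indep (e ▸ mem_zpowers b)

theorem Diag.swap [Fact (Nat.Prime 3)] (h : Diag P a b) : Diag P b a where
  card := h.card
  mem_a := h.mem_b
  mem_b := h.mem_a
  pow_a := h.pow_b
  pow_b := h.pow_a
  ne_a := h.ne_b
  indep := h.indep'
  gen y hy := by
    obtain ⟨i, j, hi, hj, e⟩ := h.gen y hy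
    exact ⟨j, i, hj, hi, e.trans (h.comm _ (pow_mem h.mem_a i) _ (pow_mem h.mem_b j))⟩
  auto n hn := ⟨(h.auto n hn).2, (h.auto n hn).1⟩
  flip_a := let ⟨n, hn, h1, h2⟩ := h.flip_b; ⟨n, hn, h2, h1⟩
  flip_b := let ⟨n, hn, h1, h2⟩ := h.flip_a; ⟨n, hn, h2, h1⟩

theorem Diag.isConj_inv (h : Diag P a b) : IsConj a a⁻¹ :=
  let ⟨n, _, h1, _⟩ := h.flip_a; isConj_iff.mpr ⟨n, h1⟩

theorem Diag.isConj_cases [Fact (Nat.Prime 3)] (h : Diag P a b) {i j : ℕ}
    (hi : i = 1 ∨ i = 2) (hj : j = 1 ∨ j = 2) : IsConj (a * b) (a ^ i * b ^ j) := by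
  obtain ⟨n, hn, n1, n2⟩ := h.flip_a
  obtain ⟨m, hm, m1, m2⟩ := h.flip_b
  have ha2 : a ^ 2 = a⁻¹ := eq_inv_of_mul_eq_one_left (by rw [← pow_succ, h.pow_a])
  have hb2 : b ^ 2 = b⁻¹ := eq_inv_of_mul_eq_one_left (by rw [← pow_succ, h.pow_b])
  rcases hi with rfl | rfl <;> rcases hj with rfl | rfl <;> simp only [pow_one, ha2, hb2]
  · exact IsConj.refl _
  · exact isConj_iff.mpr ⟨m, by rw [← conj_mul, m1, m2]⟩
  · exact isConj_iff.mpr ⟨n, by rw [← conj_mul, n1, n2]⟩
  · refine (isConj_iff.mpr ⟨n, by rw [← conj_mul, n1, n2]⟩ : IsConj (a * b) (a⁻¹ * b)).trans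
      (isConj_iff.mpr ⟨m, ?_⟩)
    rw [← conj_mul, ← conj_inv, m1, m2]

theorem Diag.isConj_mem [Fact (Nat.Prime 3)] [Finite G] (h : Diag P a b) {x y : G}
    (hx : x ∈ (P : Subgroup G)) (hy : y ∈ (P : Subgroup G)) (hxy : IsConj x y) :
    (x ∈ zpowers a → y ∈ zpowers a) ∧ (x ∈ zpowers b → y ∈ zpowers b) := by
  obtain ⟨g, hg⟩ := isConj_iff.mp hxy
  obtain ⟨n, hn, he⟩ := Transfer.conj_normalizer_of_abelian P
    (IsPGroup.isMulCommutative_of_card_eq_prime_sq (p := 3) (by rw [h.card]; norm_num)) hx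
    (hg.symm ▸ hy)
  rw [hg] at he
  obtain ⟨h1, h2⟩ := h.auto n hn
  constructor
  · rintro ⟨k, rfl⟩
    rw [← he, show n * a ^ k * n⁻¹ = (n * a * n⁻¹) ^ k from conj_zpow.symm]
    rcases h1 with e | e <;> rw [e]
    · exact zpow_mem (mem_zpowers a) k
    · exact zpow_mem (inv_mem (mem_zpowers a)) k
  · rintro ⟨k, rfl⟩
    rw [← he, show n * b ^ k * n⁻¹ = (n * b * n⁻¹) ^ k from conj_zpow.symm]
    rcases h2 with e | e <;> rw [e]
    · exact zpow_mem (mem_zpowers b) k
    · exact zpow_mem (inv_mem (mem_zpowers b)) k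

theorem Diag.not_mem_mul (h : Diag P a b) : a * b ∉ zpowers a ∧ a * b ∉ zpowers b :=
  ⟨fun hm => h.indep ((mul_mem_cancel_left (mem_zpowers a)).mp hm),
    fun hm => h.indep' ((mul_mem_cancel_right (mem_zpowers b)).mp hm)⟩

theorem Diag.not_isConj [Fact (Nat.Prime 3)] [Finite G] (h : Diag P a b) :
    ¬ IsConj a b ∧ ¬ IsConj a (a * b) ∧ ¬ IsConj b (a * b) ∧ ¬ IsConj (1 : G) a ∧
      ¬ IsConj (1 : G) b ∧ ¬ IsConj (1 : G) (a * b) :=
  ⟨fun hc => h.indep ((h.isConj_mem h.mem_a h.mem_b hc).1 (mem_zpowers a)),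
    fun hc => h.not_mem_mul.1
      ((h.isConj_mem h.mem_a (mul_mem h.mem_a h.mem_b) hc).1 (mem_zpowers a)),
    fun hc => h.not_mem_mul.2
      ((h.isConj_mem h.mem_b (mul_mem h.mem_a h.mem_b) hc).2 (mem_zpowers b)),
    fun hc => h.ne_a (isConj_one_right.mp hc), fun hc => h.ne_b (isConj_one_right.mp hc),
    fun hc => h.not_mem_mul.1 ((isConj_one_right.mp hc).symm ▸ one_mem _)⟩

/-- The four classes meeting `P`. -/
theorem Diag.classify [Fact (Nat.Prime 3)] [Finite G] (h : Diag P a b) {y : G}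
    (hy : y ∈ (P : Subgroup G)) :
    y = 1 ∨ (y ∈ zpowers a ∧ y ∉ zpowers b ∧ IsConj y a) ∨
      (y ∈ zpowers b ∧ y ∉ zpowers a ∧ IsConj y b) ∨
      (y ∉ zpowers a ∧ y ∉ zpowers b ∧ IsConj y (a * b)) := by
  obtain ⟨i, j, hi, hj, rfl⟩ := h.gen y hy
  rcases Nat.eq_zero_or_pos i with rfl | hi0 <;> rcases Nat.eq_zero_or_pos j with rfl | hj0
  · exact Or.inl (by simp)
  · rw [pow_zero, one_mul]
    refine Or.inr (Or.inr (Or.inl ⟨pow_mem (mem_zpowers b) j,
      fun hm => h.indep (pow_mem_iff h.order_b hm (by omega)), ?_⟩))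
    rcases (show j = 1 ∨ j = 2 by omega) with rfl | rfl
    · rw [pow_one]
    · rw [show b ^ 2 = b⁻¹ from eq_inv_of_mul_eq_one_left (by rw [← pow_succ, h.pow_b])]
      exact (h.swap).isConj_inv.symm
  · rw [pow_zero, mul_one]
    refine Or.inr (Or.inl ⟨pow_mem (mem_zpowers a) i,
      fun hm => h.indep' (pow_mem_iff h.order_a hm (by omega)), ?_⟩)
    rcases (show i = 1 ∨ i = 2 by omega) with rfl | rfl
    · rw [pow_one]
    · rw [show a ^ 2 = a⁻¹ from eq_inv_of_mul_eq_one_left (by rw [← pow_succ, h.pow_a])]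
      exact h.isConj_inv.symm
  · refine Or.inr (Or.inr (Or.inr ⟨fun hm => ?_, fun hm => ?_,
      (h.isConj_cases (by omega) (by omega)).symm⟩))
    · exact h.indep (pow_mem_iff h.order_b
        ((mul_mem_cancel_left (pow_mem (mem_zpowers a) i)).mp hm) (by omega))
    · exact h.indep' (pow_mem_iff h.order_a
        ((mul_mem_cancel_right (pow_mem (mem_zpowers b) j)).mp hm) (by omega))

variable [Fintype G] [Fact (Nat.Prime 3)] {e : ℕ}

/-- The value `3` on the sections of `a` and `a * b`. -/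
noncomputable def fA (e : ℕ) (a b : G) : G → ℂ := fun g => 3 * (sec e a g + sec e (a * b) g)

/-- The value `9` on the section of `a * b`. -/
noncomputable def fδ (e : ℕ) (a b : G) : G → ℂ := fun g => 9 * sec e (a * b) g

theorem cls_fA (e : ℕ) (a b : G) : Cfsg.IsClassFunction G (fA e a b) := fun g x => by
  simp only [fA, isClassFunction_sec e a g x, isClassFunction_sec e (a * b) g x]

theorem cls_fδ (e : ℕ) (a b : G) : Cfsg.IsClassFunction G (fδ e a b) := fun g x => by
  simp only [fδ, isClassFunction_sec e (a * b) g x]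

theorem fδ_swap (h : Diag P a b) : fδ e b a = fδ e a b := by
  funext g
  simp only [fδ]
  rw [h.comm b h.mem_b a h.mem_a]

theorem pow_mem_P (he : InertTwo.IsPExp 3 G e) {y : G} (hy : y ∈ (P : Subgroup G)) :
    y ^ e = y := by
  obtain ⟨k, hk⟩ := IsPGroup.iff_orderOf.mp P.2 ⟨y, hy⟩
  rw [Subgroup.orderOf_mk] at hk
  exact he.pow_eq_of_pElem ⟨k, hk⟩

theorem sec_of_conj (he : InertTwo.IsPExp 3 G e) {y z : G} (hy : y ∈ (P : Subgroup G))
    (h : IsConj y z) : sec e z y = 1 := by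
  unfold sec
  rw [pow_mem_P he hy, if_pos h]

theorem sec_of_not (he : InertTwo.IsPExp 3 G e) {y z : G} (hy : y ∈ (P : Subgroup G))
    (h : ¬ IsConj y z) : sec e z y = 0 := by
  unfold sec
  rw [pow_mem_P he hy, if_neg h]

open scoped Classical in
theorem sec_values (h : Diag P a b) (he : InertTwo.IsPExp 3 G e) {y : G}
    (hy : y ∈ (P : Subgroup G)) :
    sec e a y = (if y ∈ zpowers a then 1 else 0) - (if y = 1 then 1 else 0) ∧
    sec e (a * b) y = (if y ∈ zpowers a then 0 else if y ∈ zpowers b then 0 else 1) := by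
  obtain ⟨n1, n2, n3, n4, n5, n6⟩ := h.not_isConj
  rcases h.classify hy with rfl | ⟨m1, m2, hc⟩ | ⟨m1, m2, hc⟩ | ⟨m1, m2, hc⟩
  · simp [sec_of_not he hy n4, sec_of_not he hy n6, one_mem]
  · have : y ≠ 1 := fun e' => m2 (e' ▸ one_mem _)
    simp [sec_of_conj he hy hc, sec_of_not he hy fun hc' => n2 (hc.symm.trans hc'), m1, this]
  · have : y ≠ 1 := fun e' => m2 (e' ▸ one_mem _)
    simp [sec_of_not he hy fun hc' => n1 (hc'.symm.trans hc),
      sec_of_not he hy fun hc' => n3 (hc.symm.trans hc'), m1, m2, this]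
  · have : y ≠ 1 := fun e' => m2 (e' ▸ one_mem _)
    simp [sec_of_conj he hy hc, sec_of_not he hy fun hc' => n2 (hc'.symm.trans hc), m1, m2, this]

open scoped Classical in
theorem gen_indicator [Fintype (P : Subgroup G)] (h : Diag P a b) :
    Cfsg.IsGeneralizedCharacter (P : Subgroup G)
      (fun y : (P : Subgroup G) => if (y : G) ∈ zpowers a then (3 : ℂ) else 0) := by
  have hc : Nat.card ((zpowers a).subgroupOf (P : Subgroup G)) = 3 := by
    rw [Nat.card_congr (subgroupOfEquivOfLe (zpowers_le.mpr h.mem_a)).toEquiv, Nat.card_zpowers,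
      h.order_a]
  have h1 := isGeneralized_indicator
    (fun x y => Subtype.ext (h.comm _ x.2 _ y.2)) hc (by rw [h.card])
  simpa [mem_subgroupOf] using h1

theorem gen_fA (h : Diag P a b) (he : InertTwo.IsPExp 3 G e) :
    Cfsg.IsGeneralizedCharacter G (fA e a b) := by
  classical
  haveI : Fintype (P : Subgroup G) := Fintype.ofFinite _
  refine isGeneralized_of_part P he (cls_fA e a b)
    (fun g => by simp only [fA, sec_pow he]) ?_
  have h2 := CharCore.isGeneralized_sub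
    (CharCore.isGeneralized_intCast_smul (CharCore.isGeneralized_one (G := (P : Subgroup G))) 3)
    (gen_indicator h.swap)
  convert h2 using 1
  funext y
  obtain ⟨v1, v2⟩ := sec_values h he y.2
  simp only [fA, v1, v2, Pi.sub_apply, Pi.smul_apply, Pi.one_apply, smul_eq_mul, Int.cast_ofNat]
  rcases h.classify y.2 with hy | ⟨m1, m2, -⟩ | ⟨m1, m2, -⟩ | ⟨m1, m2, -⟩
  · simp [hy, one_mem]
  all_goals
    have : (y : G) ≠ 1 := fun e' => m2 (e' ▸ one_mem _)
    simp [m1, m2, this]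

theorem gen_fδ (h : Diag P a b) (he : InertTwo.IsPExp 3 G e) :
    Cfsg.IsGeneralizedCharacter G (fδ e a b) := by
  classical
  haveI : Fintype (P : Subgroup G) := Fintype.ofFinite _
  refine isGeneralized_of_part P he (cls_fδ e a b)
    (fun g => by simp only [fδ, sec_pow he]) ?_
  have hA := gen_indicator h
  have hB := gen_indicator h.swap
  have h2 := CharCore.isGeneralized_add (CharCore.isGeneralized_sub (CharCore.isGeneralized_sub
    (CharCore.isGeneralized_intCast_smul (CharCore.isGeneralized_one (G := (P : Subgroup G))) 9)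
    (CharCore.isGeneralized_intCast_smul hA 3)) (CharCore.isGeneralized_intCast_smul hB 3))
    (CharCore.isGeneralized_mul hA hB)
  convert h2 using 1
  funext y
  obtain ⟨-, v2⟩ := sec_values h he y.2
  simp only [fδ, v2, Pi.sub_apply, Pi.add_apply, Pi.mul_apply, Pi.smul_apply, Pi.one_apply,
    smul_eq_mul, Int.cast_ofNat]
  rcases h.classify y.2 with hy | ⟨m1, m2, -⟩ | ⟨m1, m2, -⟩ | ⟨m1, m2, -⟩
  · norm_num [hy, one_mem]
  all_goals norm_num [m1, m2]

/-- The centraliser of `a * b` has a normal `3`-complement. -/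
theorem exists_kernel (h : Diag P a b) :
    ∃ K : Subgroup (centralizer ({a * b} : Set G)), K.Normal ∧ ¬ 3 ∣ Nat.card K ∧
      (∀ x, ¬ 3 ∣ orderOf x → x ∈ K) ∧ K.index = 9 := by
  obtain ⟨K, h1, h2, h3, h4⟩ := SectionKernel.exists_kernel P h.comm
    (mul_mem h.mem_a h.mem_b) fun n hn hc => by
      obtain ⟨ha, hb⟩ := h.auto n hn
      have he : n * (a * b) * n⁻¹ = a * b :=
        mul_inv_eq_iff_eq_mul.mpr (mem_centralizer_singleton_iff.mp hc)
      rw [← conj_mul] at he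
      have h1 : n * a * n⁻¹ = a := by
        refine ha.resolve_right fun e1 => h.indep' ?_
        rw [e1] at he
        have e2 : a * a = n * b * n⁻¹ * b⁻¹ := by
          rw [eq_mul_inv_iff_mul_eq, mul_assoc, ← he, mul_inv_cancel_left]
        have e3 : a ^ 2 ∈ zpowers b := by
          rw [pow_two, e2]
          rcases hb with e4 | e4 <;> rw [e4]
          · exact mul_mem (mem_zpowers b) (inv_mem (mem_zpowers b))
          · exact mul_mem (inv_mem (mem_zpowers b)) (inv_mem (mem_zpowers b))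
        exact pow_mem_iff h.order_a e3 (by norm_num)
      rw [h1, mul_right_inj] at he
      refine mem_centralizer_iff.mpr fun y hy => ?_
      obtain ⟨i, j, -, -, rfl⟩ := h.gen y hy
      refine (mul_inv_eq_iff_eq_mul.mp ?_).symm
      rw [← conj_mul, ← conj_pow, ← conj_pow, h1, he]
  exact ⟨K, h1, h2, h3, h4.trans h.card⟩

theorem exists_card_centralizer_c (h : Diag P a b) :
    ∃ K : Subgroup (centralizer ({a * b} : Set G)), K.Normal ∧ ¬ 3 ∣ Nat.card K ∧
      (∀ x, ¬ 3 ∣ orderOf x ↔ x ∈ K) ∧ K.index = 9 ∧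
      Nat.card (centralizer ({a * b} : Set G)) = 9 * Nat.card K := by
  obtain ⟨K, h1, h2, h3, h4⟩ := exists_kernel h
  refine ⟨K, h1, h2, fun x => ⟨h3 x, fun hx hd => h2 (hd.trans ?_)⟩, h4,
    by rw [← K.index_mul_card, h4]⟩
  exact orderOf_mk x hx ▸ orderOf_dvd_natCard (⟨x, hx⟩ : K)

theorem exists_orderOf (h : Diag P a b) : ∃ k, orderOf (a * b) = 3 ^ k := by
  obtain ⟨k, hk⟩ := IsPGroup.iff_orderOf.mp P.2 ⟨a * b, mul_mem h.mem_a h.mem_b⟩
  rw [Subgroup.orderOf_mk] at hk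
  exact ⟨k, hk⟩

theorem sum_sec_c (h : Diag P a b) (he : InertTwo.IsPExp 3 G e) :
    9 * ∑ g, sec e (a * b) g = (Nat.card G : ℂ) := by
  classical
  obtain ⟨K, -, -, hK, -, hC⟩ := exists_card_centralizer_c h
  have hs := sum_sec he (exists_orderOf h) (F := fun _ => (1 : ℂ)) (fun _ _ => rfl)
  simp only [mul_one, Finset.sum_const, Finset.card_univ, nsmul_eq_mul] at hs
  rw [← Nat.card_eq_fintype_card,
    Nat.card_congr (Equiv.subtypeEquivRight fun x => hK x), hC] at hs
  have hK0 : (Nat.card K : ℂ) ≠ 0 := Nat.cast_ne_zero.mpr Nat.card_pos.ne'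
  refine mul_right_cancel₀ hK0 ?_
  push_cast at hs
  linear_combination hs

theorem sec_part (h : Diag P a b) (he : InertTwo.IsPExp 3 G e) {x : G}
    (hx : x * a = a * x) [Decidable (x ^ e ∈ zpowers a)] :
    (sec e b x + sec e (a * b) x : ℂ) = if x ^ e ∈ zpowers a then 0 else 1 := by
  obtain ⟨n1, n2, n3, n4, n5, n6⟩ := h.not_isConj
  obtain ⟨k, hk⟩ := he.orderOf_pow_eq x
  set L := centralizer ({a} : Set G)
  have hPL : (P : Subgroup G) ≤ L := fun y hy =>
    mem_centralizer_singleton_iff.mpr (h.comm y hy a h.mem_a)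
  have hxL : x ^ e ∈ L := pow_mem (mem_centralizer_singleton_iff.mpr hx) e
  obtain ⟨g, hg⟩ := Transfer.exists_conj_mem_sylow (P.subtype hPL)
    (x := (⟨x ^ e, hxL⟩ : L)) (k := k) (by rw [Subgroup.orderOf_mk]; exact hk)
  have hz : (g : G) * x ^ e * (g : G)⁻¹ ∈ (P : Subgroup G) := hg
  have hga : ∀ y ∈ zpowers a, (g : G) * y = y * g := by
    rintro _ ⟨i, rfl⟩
    exact ((show Commute a (g : G) from
      (mem_centralizer_singleton_iff.mp g.2).symm).zpow_left i).eq.symm
  have hconj : IsConj (x ^ e) ((g : G) * x ^ e * (g : G)⁻¹) := isConj_iff.mpr ⟨g, rfl⟩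
  have hsec : ∀ y, sec e y x = sec e y ((g : G) * x ^ e * (g : G)⁻¹) := fun y => by
    rw [isClassFunction_sec e y (x ^ e) g, sec_pow he]
  have hmem : x ^ e ∈ zpowers a ↔ (g : G) * x ^ e * (g : G)⁻¹ ∈ zpowers a := by
    constructor <;> intro hm
    · rw [hga _ hm, mul_inv_cancel_right]; exact hm
    · have h1 := hga _ hm
      have : (g : G) * x ^ e * (g : G)⁻¹ = x ^ e := by
        calc (g : G) * x ^ e * (g : G)⁻¹
            = (g : G)⁻¹ * ((g : G) * ((g : G) * x ^ e * (g : G)⁻¹)) := by group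
          _ = (g : G)⁻¹ * ((g : G) * x ^ e * (g : G)⁻¹ * g) := by rw [h1]
          _ = _ := by group
      rwa [this] at hm
  rw [hsec, hsec]
  rcases h.classify hz with hy | ⟨m1, m2, hc⟩ | ⟨m1, m2, hc⟩ | ⟨m1, m2, hc⟩
  · rw [if_pos (hmem.mpr (hy ▸ one_mem _)), sec_of_not he hz (hy ▸ n5),
      sec_of_not he hz (hy ▸ n6), add_zero]
  · rw [if_pos (hmem.mpr m1), sec_of_not he hz fun hc' => n1 (hc.symm.trans hc'),
      sec_of_not he hz fun hc' => n2 (hc.symm.trans hc'), add_zero]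
  · rw [if_neg (fun hm => m2 (hmem.mp hm)), sec_of_conj he hz hc,
      sec_of_not he hz fun hc' => n3 (hc.symm.trans hc'), add_zero]
  · rw [if_neg (fun hm => m1 (hmem.mp hm)), sec_of_conj he hz hc,
      sec_of_not he hz fun hc' => n3 (hc'.symm.trans hc), zero_add]

/-- The regular elements of the centraliser of `a`. -/
theorem sum_sec_a_aux (h : Diag P a b) (he : InertTwo.IsPExp 3 G e) :
    ∃ m : ℕ, (m = 1 ∨ m = 2) ∧ 9 * ∑ g, sec e a g = (m : ℂ) * (Nat.card G : ℂ) := by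
  classical
  set L := centralizer ({a} : Set G) with hL
  set N0 := Fintype.card {x : L // ¬ 3 ∣ orderOf x} with hN0
  have hgen := CharCore.isGeneralized_sub
    (CharCore.isGeneralized_intCast_smul (CharCore.isGeneralized_one (G := L)) 3)
    (CharCore.isGeneralized_restrict (gen_fA h.swap he) L)
  obtain ⟨k, hk⟩ := CharCore.IsGeneralizedCharacter.exists_classInner_eq_intCast hgen
    (CharCore.isGeneralized_one (G := L))
  have hval : ∀ x : L, (((3 : ℤ) : ℂ) • (1 : L → ℂ) - fun x : L => fA e b a (x : G)) x =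
      if (x : G) ^ e ∈ zpowers a then (3 : ℂ) else 0 := fun x => by
    have h1 := sec_part h he (x := (x : G)) (mem_centralizer_singleton_iff.mp x.2)
    simp only [Pi.sub_apply, Pi.smul_apply, Pi.one_apply, smul_eq_mul, Int.cast_ofNat, fA]
    rw [h.comm b h.mem_b a h.mem_a, h1]
    split_ifs <;> norm_num
  rw [CharCore.classInner_def] at hk
  simp only [hval, Pi.one_apply, map_one, mul_one] at hk
  rw [← Finset.sum_filter, Finset.sum_const, nsmul_eq_mul] at hk
  have hcount : (Finset.univ.filter fun x : L => (x : G) ^ e ∈ zpowers a).card = 3 * N0 := by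
    have haL : ∀ y ∈ zpowers a, y ∈ L := fun y hy =>
      zpowers_le.mpr (mem_centralizer_singleton_iff.mpr rfl) hy
    have hyk : ∀ y ∈ zpowers a, ∃ k, orderOf y = 3 ^ k := fun y hy => by
      obtain ⟨k, hk⟩ := IsPGroup.iff_orderOf.mp P.2 ⟨y, zpowers_le.mpr h.mem_a hy⟩
      rw [Subgroup.orderOf_mk] at hk
      exact ⟨k, hk⟩
    let ψ : zpowers a × {x : L // ¬ 3 ∣ orderOf x} → {x : L // (x : G) ^ e ∈ zpowers a} := fun q =>
      ⟨⟨(q.1 : G), haL _ q.1.2⟩ * q.2.1, by
        have hc : Commute (q.1 : G) (q.2.1 : G) := by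
          obtain ⟨i, hi⟩ := q.1.2
          rw [← hi]
          exact (show Commute a (q.2.1 : G) from
            (mem_centralizer_singleton_iff.mp q.2.1.2).symm).zpow_left i
        rw [Subgroup.coe_mul, he.pow_mul_eq hc (hyk _ q.1.2) (by rw [orderOf_coe]; exact q.2.2)]
        exact q.1.2⟩
    have hψ : Function.Bijective ψ := by
      have hpow : ∀ q, ((ψ q).1 : G) ^ e = q.1 := fun q => by
        have hc : Commute (q.1 : G) (q.2.1 : G) := by
          obtain ⟨i, hi⟩ := q.1.2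
          rw [← hi]
          exact (show Commute a (q.2.1 : G) from
            (mem_centralizer_singleton_iff.mp q.2.1.2).symm).zpow_left i
        exact he.pow_mul_eq hc (hyk _ q.1.2) (by rw [orderOf_coe]; exact q.2.2)
      refine ⟨fun q q' hq => ?_, fun x => ?_⟩
      · have h1 : q.1 = q'.1 := Subtype.ext (by rw [← hpow q, hq, hpow q'])
        refine Prod.ext h1 (Subtype.ext (Subtype.ext ?_))
        have h2 := congrArg (fun x => ((x.1 : L) : G)) hq
        simp only [ψ, h1, Subgroup.coe_mul] at h2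
        exact mul_left_cancel h2
      · obtain ⟨w, hw, hwc, -, hw3⟩ := he.isPPart (x.1 : G)
        have hwL : w ∈ L := by
          have : w = ((x.1 : G) ^ e)⁻¹ * (x.1 : G) := eq_inv_mul_of_mul_eq hw
          rw [this]; exact mul_mem (inv_mem (pow_mem x.1.2 e)) x.1.2
        exact ⟨(⟨_, x.2⟩, ⟨⟨w, hwL⟩, by rwa [Subgroup.orderOf_mk]⟩),
          Subtype.ext (Subtype.ext hw)⟩
    rw [← Fintype.card_subtype, ← Nat.card_eq_fintype_card, ← Nat.card_congr (Equiv.ofBijective ψ hψ),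
      Nat.card_prod, Nat.card_zpowers, h.order_a, hN0, Nat.card_eq_fintype_card]
  have hlt : 3 * N0 < Nat.card L := by
    rw [← hcount, Nat.card_eq_fintype_card]
    refine Finset.card_lt_univ_of_notMem (x := (⟨b, mem_centralizer_singleton_iff.mpr
      (h.comm b h.mem_b a h.mem_a)⟩ : L)) fun hb => ?_
    rw [Finset.mem_filter] at hb
    exact h.indep (by simpa [pow_mem_P he h.mem_b] using hb.2)
  have hpos : 0 < N0 := Fintype.card_pos_iff.mpr ⟨⟨1, by rw [orderOf_one]; norm_num⟩⟩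
  rw [hcount] at hk
  push_cast at hk
  rw [inv_mul_eq_iff_eq_mul₀ (Nat.cast_ne_zero.mpr Nat.card_pos.ne')] at hk
  have hk' : (3 * N0 * 3 : ℤ) = (Nat.card L : ℤ) * k := by exact_mod_cast hk
  have hs := sum_sec he (y := a) ⟨1, by rw [h.order_a, pow_one]⟩ (F := fun _ => (1 : ℂ))
    (fun _ _ => rfl)
  simp only [mul_one, Finset.sum_const, Finset.card_univ, nsmul_eq_mul] at hs
  have hk1 : k = 1 ∨ k = 2 := by
    have hLpos : (0 : ℤ) < Nat.card L := by exact_mod_cast Nat.card_pos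
    have hlt' : (3 * N0 : ℤ) < Nat.card L := by exact_mod_cast hlt
    have : 0 < k := by nlinarith
    have : k < 3 := by nlinarith
    omega
  have hk'' : (3 * N0 * 3 : ℂ) = (Nat.card L : ℂ) * (k : ℂ) := by exact_mod_cast hk'
  refine ⟨k.toNat, by omega, mul_left_cancel₀
    (Nat.cast_ne_zero.mpr (Nat.card_pos (α := L)).ne' : (Nat.card L : ℂ) ≠ 0) ?_⟩
  rw [show ((k.toNat : ℕ) : ℂ) = (k : ℂ) by rcases hk1 with rfl | rfl <;> simp]
  linear_combination 9 * hs + (Nat.card G : ℂ) * hk''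

theorem sum_sec_a (h : Diag P a b) (he : InertTwo.IsPExp 3 G e) :
    9 * ∑ g, sec e a g = 2 * (Nat.card G : ℂ) := by
  obtain ⟨m, hm, hs⟩ := sum_sec_a_aux h he
  obtain ⟨k, hk⟩ := CharCore.IsGeneralizedCharacter.exists_classInner_eq_intCast (gen_fA h he)
    (CharCore.isGeneralized_one (G := G))
  rw [CharCore.classInner_def] at hk
  simp only [fA, Pi.one_apply, map_one, mul_one, ← Finset.mul_sum, Finset.sum_add_distrib] at hk
  rw [inv_mul_eq_iff_eq_mul₀ (Nat.cast_ne_zero.mpr Nat.card_pos.ne')] at hk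
  have hc := sum_sec_c h he
  have h3 : ((m : ℂ) + 1) * (Nat.card G : ℂ) = (3 * k : ℂ) * (Nat.card G : ℂ) := by
    linear_combination -hs - hc + 3 * hk
  have h4 : ((m : ℤ) + 1) = 3 * k := by
    exact_mod_cast mul_right_cancel₀
      (Nat.cast_ne_zero.mpr (Nat.card_pos (α := G)).ne' : (Nat.card G : ℂ) ≠ 0) h3
  rcases hm with rfl | rfl
  · omega
  · simpa using hs

end Cfsg.Agent.NinePQ.Four
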